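import Groth.Agent.Lib.FormalFun.Stalk
import Groth.Agent.Lib.OX.FlatLocFree
import Groth.Agent.Lib.BlowUp.StalkIdeal
import Groth.Agent.Lib.CartierDescent.Conditions
import Groth.Agent.Lib.Euler.TensorSupport
import Groth.Agent.Lib.FittSheaf.Basic
import Groth.Agent.Lib.Ref1.Frame
import Groth.Agent.Lib.HomSh.Coherent
import Groth.Prelude.Def_FSch3
import Mathlib.RingTheory.Filtration
import Mathlib.RingTheory.OrzechProperty

/-!
# What the levels `V(J^(n+1))` see of a morphism of coherent modules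
-/

set_option autoImplicit false
universe u

open CategoryTheory CategoryTheory.Limits AlgebraicGeometry Opposite TopologicalSpace
open scoped TensorProduct

namespace GrothLib.FormalFun

open GrothLib.QCoh GrothLib.CartierDescent

section Algebra

variable {R : Type*} [CommRing R] (S : Type*) [CommRing S] [Algebra R S]
  (hS : Function.Surjective (algebraMap R S)) {G : Type*} [AddCommGroup G] [Module R G]

include hS

theorem exists_one_tmul (t : S ⊗[R] G) : ∃ g : G, 1 ⊗ₜ[R] g = t := by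
  induction t using TensorProduct.induction_on with
  | zero => exact ⟨0, TensorProduct.tmul_zero _ _⟩
  | tmul s g =>
    obtain ⟨r, rfl⟩ := hS s
    exact ⟨r • g, by rw [← TensorProduct.smul_tmul, Algebra.smul_def, mul_one]⟩
  | add a b ha hb =>
    obtain ⟨x, rfl⟩ := ha
    obtain ⟨y, rfl⟩ := hb
    exact ⟨x + y, TensorProduct.tmul_add _ _ _⟩

theorem mem_smul_top_of_one_tmul_eq_zero {g : G} (h : (1 : S) ⊗ₜ[R] g = 0) :
    g ∈ RingHom.ker (algebraMap R S) • (⊤ : Submodule R G) := by
  let K := RingHom.ker (algebraMap R S)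
  let e : (R ⧸ K) →ₐ[R] S := Ideal.Quotient.liftₐ K (Algebra.ofId R S) fun a ha => ha
  have he : Function.Bijective e := by
    refine ⟨(injective_iff_map_eq_zero e).2 fun a ha => ?_, fun s => ?_⟩
    · obtain ⟨a, rfl⟩ := Ideal.Quotient.mk_surjective a
      exact Ideal.Quotient.eq_zero_iff_mem.2 ha
    · obtain ⟨r, rfl⟩ := hS s
      exact ⟨Ideal.Quotient.mk K r, rfl⟩
  have h1 : ((LinearEquiv.ofBijective e.toLinearMap he).symm.rTensor G) ((1 : S) ⊗ₜ[R] g) =
      (1 : R ⧸ K) ⊗ₜ[R] g := by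
    refine (LinearEquiv.rTensor_tmul _ _ _ _).trans (congrArg (· ⊗ₜ[R] g) ?_)
    rw [LinearEquiv.symm_apply_eq]
    exact (map_one e).symm
  rw [h, map_zero] at h1
  have h2 := congrArg (TensorProduct.quotTensorEquivQuotSMul G K) h1.symm
  rw [map_zero, show (1 : R ⧸ K) = Ideal.Quotient.mk K 1 from rfl,
    TensorProduct.quotTensorEquivQuotSMul_mk_tmul, one_smul] at h2
  exact (Submodule.Quotient.mk_eq_zero _).1 h2

/-- Surjectivity modulo an ideal inside the Jacobson radical. -/
theorem surjective_of_baseChange {F : Type*} [AddCommGroup F] [Module R F] [Module.Finite R G]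
    (hJ : RingHom.ker (algebraMap R S) ≤ Ideal.jacobson ⊥) (φ : F →ₗ[R] G)
    (h : Function.Surjective (φ.baseChange S)) : Function.Surjective φ := by
  rw [← LinearMap.range_eq_top, eq_top_iff]
  refine Submodule.le_of_le_smul_of_le_jacobson_bot Module.Finite.fg_top hJ fun g _ => ?_
  obtain ⟨t, ht⟩ := h (1 ⊗ₜ[R] g)
  obtain ⟨x, rfl⟩ := exists_one_tmul S hS t
  rw [LinearMap.baseChange_tmul] at ht
  have h2 := mem_smul_top_of_one_tmul_eq_zero S hS (g := g - φ x) (by rw [TensorProduct.tmul_sub, ht, sub_self])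
  exact Submodule.mem_sup.2 ⟨φ x, LinearMap.mem_range_self _ _, g - φ x, h2, add_sub_cancel _ _⟩

end Algebra

/-- A finite module over a noetherian local ring whose reductions modulo all powers of a proper ideal
are free of rank `r` is free of rank `r`. -/
theorem exists_equiv_of_forall_level {R : Type*} [CommRing R] [IsLocalRing R] [IsNoetherianRing R]
    {G : Type*} [AddCommGroup G] [Module R G] [Module.Finite R G] {K : Ideal R} (hK : K ≠ ⊤) (r : ℕ)
    (S : ℕ → Type*) [∀ n, CommRing (S n)] [∀ n, Algebra R (S n)]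
    (hS : ∀ n, Function.Surjective (algebraMap R (S n)))
    (hker : ∀ n, RingHom.ker (algebraMap R (S n)) = K ^ (n + 1))
    (e : ∀ n, (S n ⊗[R] G) ≃ₗ[S n] (Fin r → S n)) : Nonempty (G ≃ₗ[R] (Fin r → R)) := by
  classical
  choose g hg using fun i => exists_one_tmul (S 0) (hS 0) ((e 0).symm (Pi.single i 1))
  let ψ : (Fin r → R) →ₗ[R] G := Fintype.linearCombination R g
  have hsurj : Function.Surjective ψ := by
    refine surjective_of_baseChange (S 0) (hS 0) ?_ ψ ?_
    · rw [hker 0, IsLocalRing.jacobson_eq_maximalIdeal (⊥ : Ideal R) bot_ne_top]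
      exact (Ideal.pow_le_self (Nat.succ_ne_zero 0)).trans (IsLocalRing.le_maximalIdeal hK)
    intro t
    refine ⟨∑ i, (e 0 t i) • ((1 : S 0) ⊗ₜ[R] (Pi.single i 1 : Fin r → R)), ?_⟩
    apply (e 0).injective
    rw [map_sum, map_sum]
    refine Eq.trans ?_ (pi_eq_sum_univ' (e 0 t)).symm
    refine Finset.sum_congr rfl fun i _ => ?_
    rw [map_smul, map_smul, LinearMap.baseChange_tmul]
    have : ψ (Pi.single i 1) = g i := by
      rw [Fintype.linearCombination_apply_single, one_smul]
    rw [this, hg, LinearEquiv.apply_symm_apply]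
  refine ⟨(LinearEquiv.ofBijective ψ ⟨(injective_iff_map_eq_zero ψ).2 fun v hv => funext fun i => ?_, hsurj⟩).symm⟩
  have hmem : ∀ n, v i ∈ K ^ (n + 1) := fun n => by
    let w : Fin r → (Fin r → S n) := fun j => e n ((1 : S n) ⊗ₜ[R] g j)
    have hΨ : Function.Surjective (Fintype.linearCombination (S n) w) := fun y => by
      obtain ⟨x, hx⟩ := exists_one_tmul (S n) (hS n) ((e n).symm y)
      obtain ⟨c, rfl⟩ := hsurj x
      refine ⟨fun j => algebraMap R (S n) (c j), ?_⟩
      rw [Fintype.linearCombination_apply, ← (e n).apply_symm_apply y, ← hx]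
      simp only [ψ, Fintype.linearCombination_apply, TensorProduct.tmul_sum, map_sum, TensorProduct.tmul_smul]
      refine Finset.sum_congr rfl fun j _ => ?_
      rw [← map_smul, ← algebraMap_smul (S n) (c j)]
    have hinj := OrzechProperty.injective_of_surjective_endomorphism _ hΨ
    have h0 : Fintype.linearCombination (S n) w (fun j => algebraMap R (S n) (v j)) = 0 := by
      have := congrArg (fun x => e n ((1 : S n) ⊗ₜ[R] x)) hv
      simp only [TensorProduct.tmul_zero, map_zero] at this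
      refine Eq.trans ?_ this
      simp only [ψ, Fintype.linearCombination_apply, TensorProduct.tmul_sum, map_sum, TensorProduct.tmul_smul]
      refine Finset.sum_congr rfl fun j _ => ?_
      rw [← map_smul, ← algebraMap_smul (S n) (v j)]
    rw [← hker n, RingHom.mem_ker]
    exact congrFun (hinj (h0.trans (map_zero _).symm)) i
  have hbot := Ideal.iInf_pow_eq_bot_of_isLocalRing K hK
  refine (Submodule.mem_bot R).1 (hbot ▸ Submodule.mem_iInf _ |>.2 fun n => ?_)
  exact Ideal.pow_le_pow_right (Nat.le_succ n) (hmem n)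

section Scheme

variable {X : Scheme.{u}} {M N : X.Modules}

theorem extend_map_eq_zero {Z : Scheme.{u}} (i : Z ⟶ X) (z : Z) (φ : M ⟶ N)
    (h : (Scheme.Modules.pullback i).map φ = 0) :
    (OX.stalk (i z) ⋙ ModuleCat.extendScalars (i.stalkMap z).hom).map φ = 0 := by
  refine (NatIso.naturality_1 (OX.pullStalkIso i z) φ).symm.trans ?_
  rw [show (Scheme.Modules.pullback i ⋙ OX.stalk z).map φ = 0 from
    (congrArg (OX.stalk z).map h).trans ((OX.stalk z).map_zero _ _), zero_comp, comp_zero]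

theorem stalkLin_mem_of_pullback_eq_zero {Z : Scheme.{u}} (i : Z ⟶ X) [IsClosedImmersion i] (φ : M ⟶ N)
    (h : (Scheme.Modules.pullback i).map φ = 0) (z : Z) (e : M.presheaf.stalk (i z)) :
    stalkLin φ (i z) e ∈ RingHom.ker (i.stalkMap z).hom • (⊤ : Submodule (X.presheaf.stalk (i z)) _) := by
  let f := (i.stalkMap z).hom
  letI : Algebra (X.presheaf.stalk (i z)) (Z.presheaf.stalk z) := f.toAlgebra
  refine mem_smul_top_of_one_tmul_eq_zero (Z.presheaf.stalk z) (i.stalkMap_surjective z) ?_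
  exact ConcreteCategory.congr_hom (extend_map_eq_zero i z φ h) ((1 : Z.presheaf.stalk z) ⊗ₜ e)

theorem stalkIdeal_pow (J : X.IdealSheafData) (n : ℕ) (y : X) :
    stalkIdeal (J ^ n) y = stalkIdeal J y ^ n := by
  obtain ⟨V, hV, hy, -⟩ := exists_isAffineOpen_mem_and_subset (x := y) (U := ⊤) trivial
  rw [stalkIdeal_eq _ ⟨V, hV⟩ hy, stalkIdeal_eq _ ⟨V, hV⟩ hy, Scheme.IdealSheafData.ideal_pow, Pi.pow_apply,
    Ideal.map_pow]

theorem ker_stalkMap_level (J : X.IdealSheafData) (n : ℕ) (z : (J ^ (n + 1)).subscheme) :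
    RingHom.ker ((J ^ (n + 1)).subschemeι.stalkMap z).hom =
      stalkIdeal J ((J ^ (n + 1)).subschemeι z) ^ (n + 1) := by
  obtain ⟨V, hV, hy, -⟩ := exists_isAffineOpen_mem_and_subset (x := (J ^ (n + 1)).subschemeι z) (U := ⊤) trivial
  rw [← stalkIdeal_pow, stalkIdeal_eq _ ⟨V, hV⟩ hy]
  exact GrothLib.BlowUp.ker_stalkMap_subschemeι (J ^ (n + 1)) z ⟨V, hV⟩ hy

theorem exists_level_point (J : X.IdealSheafData) (n : ℕ) {y : X} (hy : y ∈ J.support) :
    ∃ z : (J ^ (n + 1)).subscheme, (J ^ (n + 1)).subschemeι z = y := by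
  change y ∈ Set.range (J ^ (n + 1)).subschemeι
  rw [Scheme.IdealSheafData.range_subschemeι, Scheme.IdealSheafData.support_pow_succ]
  exact hy

/-- A morphism into a coherent module vanishing on all levels vanishes on the stalks along the support. -/
theorem stalkLin_eq_zero_of_levels [IsLocallyNoetherian X] (hN : Coh.IsCoh N) (φ : M ⟶ N) (J : X.IdealSheafData)
    (h : ∀ n : ℕ, (Scheme.Modules.pullback (J ^ (n + 1)).subschemeι).map φ = 0) {y : X} (hy : y ∈ J.support)
    (e : M.presheaf.stalk y) : stalkLin φ y e = 0 := by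
  have := hN.1
  haveI := GrothLib.FittSheaf.finite_stalk hN.2 y
  have hK : stalkIdeal J y ≠ ⊤ := fun hc => (stalkIdeal_eq_top_iff J y).1 hc hy
  have hbot := Ideal.iInf_pow_smul_eq_bot_of_isLocalRing (M := N.presheaf.stalk y) (stalkIdeal J y) hK
  refine (Submodule.mem_bot (X.presheaf.stalk y)).1 (hbot ▸ Submodule.mem_iInf _ |>.2 fun n => ?_)
  obtain ⟨z, rfl⟩ := exists_level_point J n hy
  refine Submodule.smul_mono_left (Ideal.pow_le_pow_right (Nat.le_succ n)) ?_
  rw [← ker_stalkMap_level]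
  exact stalkLin_mem_of_pullback_eq_zero _ φ (h n) z e

theorem stalk_map_eq_zero_of_forall {φ : M ⟶ N} {y : X} (h : ∀ e, stalkLin φ y e = 0) :
    (OX.stalk y).map φ = 0 :=
  ModuleCat.hom_ext (LinearMap.ext h)

theorem restrict_map_eq_zero {U : X.Opens} {φ : M ⟶ N} (h : ∀ y ∈ U, (OX.stalk y).map φ = 0) :
    (Scheme.Modules.restrictFunctor U.ι).map φ = 0 :=
  (OX.eq_zero_iff _).2 fun y => OX.stalk_map_restrict_eq_zero U.ι y φ (h _ y.2)

theorem mono_restrict {U : X.Opens} {φ : M ⟶ N} (h : ∀ y ∈ U, (OX.stalk y).map (kernel.ι φ) = 0) :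
    Mono ((Scheme.Modules.restrictFunctor U.ι).map φ) := by
  refine Abelian.mono_of_kernel_ι_eq_zero _ ?_
  rw [← PreservesKernel.iso_inv_ι (Scheme.Modules.restrictFunctor U.ι), restrict_map_eq_zero h, comp_zero]

theorem epi_restrict {U : X.Opens} {φ : M ⟶ N} (h : ∀ y ∈ U, (OX.stalk y).map (cokernel.π φ) = 0) :
    Epi ((Scheme.Modules.restrictFunctor U.ι).map φ) := by
  refine Abelian.epi_of_cokernel_π_eq_zero _ ?_
  rw [← PreservesCokernel.π_iso_hom (Scheme.Modules.restrictFunctor U.ι), restrict_map_eq_zero h, zero_comp]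

theorem stalk_map_eq_zero_of_notMem_src (φ : M ⟶ N) {y : X} (h : y ∉ CohB1.support M) :
    (OX.stalk y).map φ = 0 := by
  haveI := stalk_subsingleton_of_notMem h
  refine stalk_map_eq_zero_of_forall fun e => ?_
  rw [Subsingleton.elim e 0, map_zero]

theorem stalk_map_eq_zero_of_notMem_tgt (φ : M ⟶ N) {y : X} (h : y ∉ CohB1.support N) :
    (OX.stalk y).map φ = 0 := by
  haveI := stalk_subsingleton_of_notMem h
  exact stalk_map_eq_zero_of_forall fun e => Subsingleton.elim _ _

theorem notMem_support_of_epi_zero (φ : M ⟶ N) [Epi φ] {y : X} (h : ∀ e, stalkLin φ y e = 0) :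
    y ∉ CohB1.support N := by
  simp only [CohB1.support, Set.mem_setOf_eq, not_not]
  refine subsingleton_of_forall_eq 0 fun e => ?_
  obtain ⟨m, rfl⟩ := stalkLin_surjective φ y e
  exact h m

theorem notMem_support_of_mono_zero (φ : M ⟶ N) [Mono φ] {y : X} (h : ∀ e, stalkLin φ y e = 0) :
    y ∉ CohB1.support M := by
  simp only [CohB1.support, Set.mem_setOf_eq, not_not]
  exact subsingleton_of_forall_eq 0 fun e => stalkLin_injective φ y ((h e).trans (map_zero _).symm)

theorem eq_zero_near [IsLocallyNoetherian X] (hM : Coh.IsCoh M) (hN : Coh.IsCoh N) (φ : M ⟶ N)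
    (J : X.IdealSheafData) (h : ∀ n : ℕ, (Scheme.Modules.pullback (J ^ (n + 1)).subschemeι).map φ = 0) :
    ∃ U : X.Opens, (J.support : Set X) ⊆ U ∧ (Scheme.Modules.restrictFunctor U.ι).map φ = 0 := by
  have hI : Coh.IsCoh (Abelian.image φ) := isCoh_kernel _ hN (isCoh_cokernel φ hM hN)
  refine ⟨⟨(CohB1.support (Abelian.image φ))ᶜ, (isClosed_support_of_isCoh hI).isOpen_compl⟩, fun y hy => ?_,
    restrict_map_eq_zero fun y hy => ?_⟩
  · refine notMem_support_of_epi_zero (Abelian.factorThruImage φ) fun e => stalkLin_injective (Abelian.image.ι φ) y ?_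
    rw [map_zero, ← stalkLin_comp, Abelian.image.fac]
    exact stalkLin_eq_zero_of_levels hN φ J h hy e
  · rw [← Abelian.image.fac φ, Functor.map_comp, stalk_map_eq_zero_of_notMem_tgt _ hy, zero_comp]

theorem mono_near [IsLocallyNoetherian X] (hM : Coh.IsCoh M) (hN : Coh.IsCoh N) (φ : M ⟶ N)
    (J : X.IdealSheafData)
    (h : ∀ n : ℕ, (Scheme.Modules.pullback (J ^ (n + 1)).subschemeι).map (kernel.ι φ) = 0) :
    ∃ U : X.Opens, (J.support : Set X) ⊆ U ∧ Mono ((Scheme.Modules.restrictFunctor U.ι).map φ) :=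
  ⟨⟨(CohB1.support (kernel φ))ᶜ, (isClosed_support_of_isCoh (isCoh_kernel φ hM hN)).isOpen_compl⟩,
    fun _ hy => notMem_support_of_mono_zero (kernel.ι φ) fun e => stalkLin_eq_zero_of_levels hM _ J h hy e,
    mono_restrict fun _ hy => stalk_map_eq_zero_of_notMem_src _ hy⟩

theorem epi_near [IsLocallyNoetherian X] (hM : Coh.IsCoh M) (hN : Coh.IsCoh N) (φ : M ⟶ N)
    (J : X.IdealSheafData)
    (h : ∀ n : ℕ, (Scheme.Modules.pullback (J ^ (n + 1)).subschemeι).map (cokernel.π φ) = 0) :
    ∃ U : X.Opens, (J.support : Set X) ⊆ U ∧ Epi ((Scheme.Modules.restrictFunctor U.ι).map φ) :=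
  ⟨⟨(CohB1.support (cokernel φ))ᶜ, (isClosed_support_of_isCoh (isCoh_cokernel φ hM hN)).isOpen_compl⟩,
    fun _ hy => notMem_support_of_epi_zero (cokernel.π φ) fun e =>
      stalkLin_eq_zero_of_levels (isCoh_cokernel φ hM hN) _ J h hy e,
    epi_restrict fun _ hy => stalk_map_eq_zero_of_notMem_tgt _ hy⟩

/-- Surjectivity is detected on a closed subscheme with all the points. -/
theorem epi_iff_epi_pullback {Z : Scheme.{u}} (i : Z ⟶ X) [IsClosedImmersion i] [Surjective i]
    [N.IsQuasicoherent] (hN : CohB1.IsFT N) (φ : M ⟶ N) :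
    Epi φ ↔ Epi ((Scheme.Modules.pullback i).map φ) := by
  refine ⟨fun _ => ?_, fun hp => (OX.epi_iff φ).2 fun y => ?_⟩
  · have := (Scheme.Modules.pullbackPushforwardAdjunction i).isLeftAdjoint
    exact (Scheme.Modules.pullback i).map_epi φ
  obtain ⟨z, rfl⟩ := i.surjective y
  have hz : Epi ((ModuleCat.extendScalars (i.stalkMap z).hom).map ((OX.stalk (i z)).map φ)) := by
    refine ((MorphismProperty.epimorphisms _).arrow_mk_iso_iff
      (Arrow.isoMk ((OX.pullStalkIso i z).app M) ((OX.pullStalkIso i z).app N)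
        ((OX.pullStalkIso i z).hom.naturality φ).symm)).1 ?_
    exact (OX.epi_iff _).1 hp z
  rw [ModuleCat.epi_iff_surjective] at hz ⊢
  haveI : Module.Finite (X.presheaf.stalk (i z)) ((OX.stalk (i z)).obj N) :=
    GrothLib.FittSheaf.finite_stalk hN (i z)
  let f := (i.stalkMap z).hom
  letI : Algebra (X.presheaf.stalk (i z)) (Z.presheaf.stalk z) := f.toAlgebra
  refine surjective_of_baseChange (Z.presheaf.stalk z) (i.stalkMap_surjective z) ?_ _ hz
  rw [IsLocalRing.jacobson_eq_maximalIdeal (⊥ : Ideal _) bot_ne_top]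
  exact IsLocalRing.le_maximalIdeal (RingHom.ker_ne_top _)

end Scheme

end GrothLib.FormalFun
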