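import Groth.Agent.Lib.FormalFun.Basic

/-!
# The theorem on formal functions: induction on the generators
-/

universe u

open CategoryTheory CategoryTheory.Limits AlgebraicGeometry Opposite

namespace GrothLib.FormalFun

open GrothLib.Cohom GrothLib.FormalSys

variable {A : Type u} [CommRing A] {X : Scheme.{u}} [X.Over (Spec (CommRingCat.of A))]

/-- Successive quotients by two ideals give the quotient by their sum. -/
theorem isQuot_comp_sup {M N P : X.Modules} {J K : Ideal A} {π : M ⟶ N} (hπ : IsQuot J π)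
    {ρ : N ⟶ P} (hρ : IsQuot K ρ) : IsQuot (J ⊔ K) (π ≫ ρ) := by
  have := hπ.epi
  have := hρ.epi
  refine IsQuot.mk' (fun a ha => ?_) ?_
  · obtain ⟨x, hx, y, hy, rfl⟩ := Submodule.mem_sup.1 ha
    rw [smulMod_add, Preadditive.add_comp, reassoc_of% (hπ.comp_eq_zero x hx), zero_comp, zero_add,
      smulMod_naturality_assoc, hρ.comp_eq_zero y hy, comp_zero]
  · obtain ⟨χ, hχ⟩ := hπ.exists_desc' (cokernel.π (Formal.smulFamily (J ⊔ K) M))
      (killedBy_mono le_sup_left (IsQuot.cokernelπ (J ⊔ K) M).killedBy)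
    obtain ⟨ω, hω⟩ := hρ.exists_desc' χ (killedBy_mono le_sup_right (IsQuot.cokernelπ (J ⊔ K) M).killedBy)
    exact ⟨ω, by rw [Category.assoc, hω, hχ]⟩

/-- Adding one generator. -/
theorem bij_sup {f : A} {J : Ideal A} {M : X.Modules} {p : ℕ}
    (h₁ : Bij (Ideal.span ({f} : Set A)) M p)
    (h₂ : ∀ k, Bij J (Formal.modPow (Ideal.span ({f} : Set A)) (k + 1) M) p) :
    Bij (Ideal.span ({f} : Set A) ⊔ J) M p := by
  set F := Ideal.span ({f} : Set A) with hF
  set K := F ⊔ J with hK
  let Q : ℕ → ℕ → X.Modules := fun k n => Formal.modPow J (n + 1) (Formal.modPow F (k + 1) M)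
  let π : ∀ k n, M ⟶ Q k n := fun k n =>
    Formal.modPowπ F (k + 1) M ≫ Formal.modPowπ J (n + 1) (Formal.modPow F (k + 1) M)
  have hπ : ∀ k n, IsQuot (F ^ (k + 1) ⊔ J ^ (n + 1)) (π k n) := fun k n =>
    isQuot_comp_sup (IsQuot.modPowπ F (k + 1) M) (IsQuot.modPowπ J (n + 1) _)
  have hle : ∀ k n, K ^ (k + n + 1 + 1) ≤ F ^ (k + 1) ⊔ J ^ (n + 1) := fun k n => by
    rw [show k + n + 1 + 1 = (k + 1) + (n + 1) by omega]; exact Ideal.sup_pow_add_le_pow_sup_pow
  have hge : ∀ m, F ^ (m + 1) ⊔ J ^ (m + 1) ≤ K ^ (m + 1) := fun m =>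
    sup_le (Ideal.pow_right_mono le_sup_left _) (Ideal.pow_right_mono le_sup_right _)
  refine ⟨fun x hx => h₁.1 x fun k => (h₂ k).1 _ fun n => ?_, fun z hz => ?_⟩
  · obtain ⟨d, hd⟩ := (IsQuot.modPowπ K (k + n + 1 + 1) M).exists_desc' (π k n)
      (killedBy_mono (hle k n) (hπ k n).killedBy)
    rw [hhMap_comp]
    refine (congrArg (fun g => hhMap A g p x) hd).symm.trans ?_
    rw [← hhMap_comp, hx, map_zero]
  · obtain ⟨v, hvz, hv⟩ := exists_extend_family z hz
    choose d hd using fun k n => (IsQuot.modPowπ K (k + n + 1 + 1) M).exists_desc' (π k n)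
      (killedBy_mono (hle k n) (hπ k n).killedBy)
    have hepi := fun m => epi_modPowπ K m M
    let y : ∀ k n, Coh.HH X (Q k n) p := fun k n => hhMap A (d k n) p (v (k + n + 1 + 1))
    have hyn : ∀ k n, hhMap A (Formal.modPowTrans J (n + 1) (Formal.modPow F (k + 1) M)) p
        (y k (n + 1)) = y k n := fun k n => by
      show hhMap A _ p (hhMap A (d k (n + 1)) p _) = hhMap A (d k n) p _
      rw [← hv (k + n + 1 + 1) (k + (n + 1) + 1 + 1) (by omega), hhMap_comp, hhMap_comp]
      congr 2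
      rw [← cancel_epi (Formal.modPowπ K (k + (n + 1) + 1 + 1) M), reassoc_of% (hd k (n + 1)),
        reassoc_of% (Formal2.modPowπ_modPowLE K (show k + n + 1 + 1 ≤ k + (n + 1) + 1 + 1 by omega) M), hd]
      simp only [π, Category.assoc, Formal.modPowπ_trans]
    choose u hu using fun k => (h₂ k).2 (y k) (hyn k)
    have huc : ∀ k, hhMap A (Formal.modPowTrans F (k + 1) M) p (u (k + 1)) = u k := fun k => by
      rw [← sub_eq_zero]
      refine (h₂ k).1 _ fun n => ?_
      rw [map_sub, sub_eq_zero, hu k n, hhMap_comp]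
      obtain ⟨e, he⟩ := (IsQuot.modPowπ J (n + 1) (Formal.modPow F (k + 1 + 1) M)).exists_desc'
        (Formal.modPowTrans F (k + 1) M ≫ Formal.modPowπ J (n + 1) _) (killedBy_modPow _ _)
      rw [← he, ← hhMap_comp, hu (k + 1) n]
      show hhMap A e p (hhMap A (d (k + 1) n) p _) = hhMap A (d k n) p _
      rw [← hv (k + n + 1 + 1) (k + 1 + n + 1 + 1) (by omega), hhMap_comp, hhMap_comp]
      congr 2
      rw [← cancel_epi (Formal.modPowπ K (k + 1 + n + 1 + 1) M), reassoc_of% (hd (k + 1) n),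
        reassoc_of% (Formal2.modPowπ_modPowLE K (show k + n + 1 + 1 ≤ k + 1 + n + 1 + 1 by omega) M), hd]
      simp only [π, Category.assoc, he]
      rw [← Category.assoc, Formal.modPowπ_trans]
    obtain ⟨x, hx⟩ := h₁.2 u huc
    refine ⟨x, fun m => ?_⟩
    obtain ⟨e, he⟩ := (hπ m m).exists_desc' (Formal.modPowπ K (m + 1) M)
      (killedBy_mono (hge m) (killedBy_modPow _ _))
    rw [← he, ← hhMap_comp]
    simp only [π]
    rw [← hhMap_comp, hx m, hu m m]
    show hhMap A e p (hhMap A (d m m) p _) = _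
    rw [hhMap_comp, ← hvz m, ← hv (m + 1) (m + m + 1 + 1) (by omega)]
    congr 2
    rw [← cancel_epi (Formal.modPowπ K (m + m + 1 + 1) M), reassoc_of% (hd m m),
      Formal2.modPowπ_modPowLE, he]

/-- The theorem on formal functions for a class of coherent modules with finite cohomology. -/
theorem bij_of_finite [IsNoetherianRing A] [IsNoetherian X] (I : Ideal A) [IsAdicComplete I A]
    (C : X.Modules → Prop) (hcoh : ∀ M, C M → Coh.IsCoh M)
    (hquot : ∀ {M N : X.Modules} (π : M ⟶ N) [Epi π], C M → Coh.IsCoh N → C N)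
    (hfin : ∀ M, C M → ∀ p, Module.Finite A (Coh.HH X M p))
    (M : X.Modules) (hM : C M) (p : ℕ) : Bij I M p := by
  classical
  have hone : ∀ f ∈ I, ∀ N, C N → Bij (Ideal.span ({f} : Set A)) N p := fun f hf N hN => by
    have : IsAdicComplete (Ideal.span ({f} : Set A)) A :=
      GrothLib.AdicExtra.isAdicComplete_of_le ((Ideal.span_singleton_le_iff_mem I).2 hf)
        (IsNoetherian.noetherian _)
    exact bij_span_singleton f (hcoh N hN) (fun N' π _ hN' q => hfin N' (hquot π hN hN') q) p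
  have hC : ∀ (f : A) k N, C N → C (Formal.modPow (Ideal.span ({f} : Set A)) k N) := fun f k N hN => by
    have hq := IsQuot.modPowπ (Ideal.span ({f} : Set A)) k N
    have := hq.epi
    refine hquot (Formal.modPowπ _ k N) hN ?_
    have hc := (QCoh.isCoh_cokernel (Formal.smulMod A N (f ^ k)) (hcoh N hN) (hcoh N hN))
    have hq' : IsQuot ((Ideal.span ({f} : Set A)) ^ k) (cokernel.π (Formal.smulMod A N (f ^ k))) := by
      refine IsQuot.mk' ((comp_eq_zero_span_pow_iff f k _).2 (cokernel.condition _)) ?_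
      exact ⟨cokernel.desc _ _ ((comp_eq_zero_span_pow_iff f k _).1
        (IsQuot.cokernelπ _ N).comp_eq_zero), cokernel.π_desc _ _ _⟩
    obtain ⟨e, -⟩ := hq'.exists_iso hq
    exact QCoh.isCoh_of_iso e hc
  obtain ⟨s, rfl⟩ := (IsNoetherian.noetherian I : I.FG)
  suffices H : ∀ t : Finset A, (∀ a ∈ t, a ∈ Ideal.span (s : Set A)) →
      ∀ N, C N → Bij (Ideal.span (t : Set A)) N p from
    H s (fun a ha => Ideal.subset_span ha) M hM
  intro t
  induction t using Finset.induction_on with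
  | empty => intro _ N _; rw [Finset.coe_empty, Ideal.span_empty]; exact bij_bot N p
  | insert a t _ ih =>
    intro ht N hN
    rw [Finset.coe_insert, Ideal.span_insert]
    exact bij_sup (hone a (ht a (Finset.mem_insert_self a t)) N hN) fun k =>
      ih (fun b hb => ht b (Finset.mem_insert_of_mem hb)) _ (hC a (k + 1) N hN)

end GrothLib.FormalFun
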