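import Groth.Agent.Lib.FormalFun.Stalk
import Groth.Agent.Lib.HomSh.QCoh
import Groth.Agent.Lib.FormalFun.Main
import Groth.Agent.Lib.QCoh.Extension
import Groth.Prelude.Def_Formal2
import Mathlib.RingTheory.Filtration

/-!
# Homomorphisms modulo powers of an ideal: Artin–Rees for the sheaf Hom
-/

universe u

open CategoryTheory CategoryTheory.Limits AlgebraicGeometry Opposite TopologicalSpace

namespace GrothLib.FormalFun

open GrothLib.FormalSys GrothLib.QCoh GrothLib.HomSh

/-- A member of a product of multiples, coordinatewise. -/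
theorem pi_mem_smul_top {R : Type*} [CommRing R] {P : Type*} [AddCommGroup P] [Module R P] {ι : Type*}
    [Fintype ι] (I : Ideal R) {v : ι → P} :
    v ∈ (I • ⊤ : Submodule R (ι → P)) ↔ ∀ i, v i ∈ (I • ⊤ : Submodule R P) := by
  classical
  refine ⟨fun h i => ?_, fun h => ?_⟩
  · have := Submodule.mem_map_of_mem (f := (LinearMap.proj i : (ι → P) →ₗ[R] P)) h
    rw [Submodule.map_smul''] at this
    exact Submodule.smul_mono le_rfl le_top this
  · have hv : v = ∑ i, LinearMap.single R (fun _ : ι => P) i (v i) :=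
      funext fun j => by simp [Finset.sum_apply]
    rw [hv]
    refine Submodule.sum_mem _ fun i _ => ?_
    have := Submodule.mem_map_of_mem (f := LinearMap.single R (fun _ : ι => P) i) (h i)
    rw [Submodule.map_smul''] at this
    exact Submodule.smul_mono le_rfl le_top this

variable {A : Type u} [CommRing A] {X : Scheme.{u}}
  [X.Over (Spec (CommRingCat.of A))]

/-- The multiples by `I ^ n` in a stalk. -/
noncomputable abbrev Fil (I : Ideal A) (n : ℕ) (M : X.Modules) (y : X) :
    Submodule (X.presheaf.stalk y) (M.presheaf.stalk y) :=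
  ((I ^ n).map (toStalk A y)) • ⊤

theorem fil_anti (I : Ideal A) {m n : ℕ} (h : m ≤ n) (M : X.Modules) (y : X) : Fil I n M y ≤ Fil I m M y :=
  Submodule.smul_mono_left (Ideal.map_mono (Ideal.pow_le_pow_right h))

theorem mem_fil_iff (I : Ideal A) (n : ℕ) (M : X.Modules) (y : X) (e : M.presheaf.stalk y) :
    e ∈ Fil I n M y ↔ stalkLin (Formal.modPowπ I n M) y e = 0 := by
  rw [← LinearMap.mem_ker, ker_stalkLin_of_isQuot (IsQuot.modPowπ I n M)]

variable [IsLocallyNoetherian X] {M N : X.Modules}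

/-- The quotient of a coherent module by a power of `I` is coherent. -/
theorem isCoh_modPow (I : Ideal A) (n : ℕ) (hM : Coh.IsCoh M) : Coh.IsCoh (Formal.modPow I n M) := by
  have := hM.1
  have : ∀ j : Discrete ↥(I ^ n), ((Discrete.functor fun _ : ↥(I ^ n) => M).obj j).IsQuasicoherent :=
    fun _ => hM.1
  have hq : (∐ fun _ : ↥(I ^ n) => M).IsQuasicoherent := QCoh.isQuasicoherent_colimit _ this
  exact ⟨QCoh.isQuasicoherent_cokernel _, QCoh.isFiniteType_cokernel _ hM.2⟩

/-- Artin–Rees on an affine open: homomorphisms with values in `IⁿN` are multiples of `I^(n-c)`, and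
homomorphisms to `N/IⁿN` lift to homomorphisms modulo `I^(n-c)`. -/
theorem exists_artinRees_homSh (I : Ideal A) (hM : HasRel M) (hN : Coh.IsCoh N) (x : X) :
    ∃ (U : X.Opens) (_ : x ∈ U) (c : ℕ),
      (∀ (n : ℕ), c ≤ n → ∀ (y : X) (_ : y ∈ U) (δ : (RefHull.homSh M N).presheaf.stalk y),
        (∀ v : M.presheaf.stalk y, RefHull.evalStalk M N y δ v ∈ Fil I n N y) →
          δ ∈ Fil I (n - c) (RefHull.homSh M N) y) ∧
      (∀ (n : ℕ), c ≤ n → ∀ χ : M ⟶ Formal.modPow I n N,
        ∃ h : Γ(RefHull.homSh M N, U), ∀ (y : X) (hy : y ∈ U) (v : M.presheaf.stalk y),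
          stalkLin (Formal2.modPowLE I (Nat.sub_le n c) N) y (stalkLin χ y v) =
            stalkLin (Formal.modPowπ I (n - c) N) y (h.1 ⟨y, hy⟩ v)) := by
  classical
  obtain ⟨W, ι, _, κ, _, m, a, hxW, hgen, hrel⟩ := hM x
  obtain ⟨U, hU, hxU, hUW⟩ := Opens.isBasis_iff_nbhd.1 X.isBasis_affineOpens hxW
  set H := RefHull.homSh M N
  have hH : Coh.IsCoh H := isCoh_homSh hM hN
  have := hH.1
  have := hN.1
  have : IsNoetherianRing Γ(X, U) := IsLocallyNoetherian.component_noetherian ⟨U, hU⟩
  have := QCoh.moduleFinite_of_isFiniteType N hN.2 hU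
  let J : Ideal Γ(X, U) := I.map (toSec A U)
  have hJ : ∀ n, (I ^ n).map (toSec A U) = J ^ n := fun n => Ideal.map_pow _ _ _
  -- the matrix of relations on sections
  let D : (ι → Γ(N, U)) →ₗ[Γ(X, U)] (κ → Γ(N, U)) := LinearMap.pi fun j =>
      ∑ i, (X.presheaf.map (homOfLE hUW).op (a j i) : Γ(X, U)) • LinearMap.proj i
  have hD : ∀ v j, D v j = ∑ i, (X.presheaf.map (homOfLE hUW).op (a j i) : Γ(X, U)) • v i := fun v j => by
    simp [D]
  let E : Γ(H, U) →ₗ[Γ(X, U)] (ι → Γ(N, U)) := applyGensₗ (m := m) hUW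
  have hE : Function.Injective E := applyGensₗ_injective hUW hgen
  have hEv : ∀ (g : Γ(H, U)) (y : X) (hy : y ∈ U) (i : ι), N.presheaf.germ U y hy (E g i) =
      g.1 ⟨y, hy⟩ (M.presheaf.germ W y (hUW hy) (m i)) := fun g y hy i => germ_applyGens hUW g i y hy
  have hrange : LinearMap.range E = LinearMap.ker D := by
    apply le_antisymm
    · rintro _ ⟨g, rfl⟩
      refine LinearMap.mem_ker.2 (funext fun j => ?_)
      rw [hD]
      refine GrothLib.QCoh.section_eq_zero_of_germ N _ fun y hy => ?_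
      rw [map_sum]
      have := congrArg (g.1 ⟨y, hy⟩) ((hrel y (hUW hy)).1 j)
      rw [map_zero, map_sum] at this
      refine Eq.trans (Finset.sum_congr rfl fun i _ => ?_) this
      rw [Mero.germ_smul, TopCat.Presheaf.germ_res_apply, hEv, map_smul]
    · intro v hv
      obtain ⟨g, hg⟩ := exists_section_of_relOn M N hgen hrel hUW (le_refl U) v fun j => by
        rw [← hD, LinearMap.mem_ker.1 hv]
        exact map_zero _
      refine ⟨g, funext fun i => ?_⟩
      refine TopCat.Presheaf.section_ext (C := Ab.{u}) (X := X.carrier) ⟨N.presheaf, N.isSheaf⟩ U _ _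
        fun y hy => ?_
      exact (hEv g y hy i).trans (hg y hy i)
  obtain ⟨c₁, hc₁⟩ := Ideal.exists_pow_inf_eq_pow_smul J (LinearMap.range D)
  obtain ⟨c₂, hc₂⟩ := Ideal.exists_pow_inf_eq_pow_smul J (LinearMap.ker D)
  refine ⟨U, hxU, max c₁ c₂, fun n hn y hy δ hδ => ?_, fun n hn χ => ?_⟩
  · obtain ⟨c₀, h, hc₀, hh⟩ := WeakAss.exists_smul_eq_germ hU hy δ
    have hp : (WeakAss.primeAt y hy).IsPrime := inferInstance
    have key : ∀ i, ∃ d ∉ WeakAss.primeAt y hy, d • E h i ∈ (J ^ n • ⊤ : Submodule Γ(X, U) Γ(N, U)) := by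
      intro i
      rw [← hJ]
      refine exists_smul_mem_of_germ_mem hU hy _ ?_
      rw [hEv, ← RefHull.evalAdd_germ M N y hy h]
      change RefHull.evalStalk M N y (H.presheaf.germ U y hy h) _ ∈ _
      rw [← hh, map_smul, LinearMap.smul_apply]
      exact Submodule.smul_mem _ _ (hδ _)
    choose d hd hdm using key
    let d' := ∏ i, d i
    have hd' : d' ∉ WeakAss.primeAt y hy :=
      Submonoid.prod_mem (WeakAss.primeAt y hy).primeCompl fun i _ => hd i
    have hmem : d' • E h ∈ (J ^ n • ⊤ : Submodule Γ(X, U) (ι → Γ(N, U))) ⊓ LinearMap.ker D := by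
      refine ⟨(pi_mem_smul_top _).2 fun i => ?_, Submodule.smul_mem _ _ (hrange.le ⟨h, rfl⟩)⟩
      show (∏ j, d j) • E h i ∈ _
      rw [← Finset.prod_erase_mul _ _ (Finset.mem_univ i), mul_smul]
      exact Submodule.smul_mem _ _ (hdm i)
    rw [hc₂ n ((le_max_right c₁ c₂).trans hn)] at hmem
    have hmem' : d' • E h ∈ J ^ (n - max c₁ c₂) • LinearMap.ker D :=
      Submodule.smul_mono (Ideal.pow_le_pow_right (Nat.sub_le_sub_left (le_max_right c₁ c₂) n))
        inf_le_right hmem
    rw [← hrange, LinearMap.range_eq_map, ← Submodule.map_smul''] at hmem'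
    obtain ⟨h', hh', e⟩ := hmem'
    rw [← map_smul] at e
    obtain rfl := hE e
    rw [← hJ] at hh'
    have hgerm := germ_mem_of_mem hy _ hh'
    rw [WeakAss.germ_smul, ← hh, smul_smul, ← map_mul] at hgerm
    have hu : IsUnit (X.presheaf.germ U y hy (d' * c₀)) :=
      (Scheme.mem_basicOpen _ _ y hy).mp (WeakAss.notMem_primeAt_iff.mp fun hc =>
        (hp.mem_or_mem hc).elim hd' hc₀)
    exact (Submodule.smul_mem_iff_of_isUnit _ hu).1 hgerm
  · -- lift the values on the generators
    let π := Formal.modPowπ I n N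
    have := (IsQuot.modPowπ I n N).epi
    have hKq : (kernel π).IsQuasicoherent := by
      have hc : Coh.IsCoh (Formal.modPow I n N) := isCoh_modPow I n hN
      have := hc.1
      exact isQuasicoherent_kernel π
    have hsurj : Function.Surjective (π.app U) :=
      @app_surjective_of_isAffineOpen _ (ShortComplex.mk (kernel.ι π) π (kernel.condition π))
        { exact := ShortComplex.exact_of_f_is_kernel _ (kernelIsKernel π) } hKq U hU
    let b : ι → Γ(Formal.modPow I n N, U) := fun i => χ.app U (M.presheaf.map (homOfLE hUW).op (m i))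
    choose v hv using fun i => hsurj (b i)
    have hvy : ∀ (y : X) (hy : y ∈ U) (i : ι), stalkLin π y (N.presheaf.germ U y hy (v i)) =
        stalkLin χ y (M.presheaf.germ W y (hUW hy) (m i)) := fun y hy i => by
      rw [stalkLin_germ, hv, ← stalkLin_germ χ, TopCat.Presheaf.germ_res_apply]
    have hDv : D v ∈ (J ^ n • ⊤ : Submodule Γ(X, U) (κ → Γ(N, U))) ⊓ LinearMap.range D := by
      refine ⟨(pi_mem_smul_top _).2 fun j => ?_, ⟨v, rfl⟩⟩
      rw [← hJ, hD]
      refine mem_of_forall_germ_mem hU _ fun y hy => ?_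
      rw [mem_fil_iff, map_sum, map_sum]
      have := congrArg (stalkLin χ y) ((hrel y (hUW hy)).1 j)
      rw [map_zero, map_sum] at this
      refine Eq.trans (Finset.sum_congr rfl fun i _ => ?_) this
      rw [Mero.germ_smul, TopCat.Presheaf.germ_res_apply, map_smul, hvy, map_smul]
    rw [hc₁ n ((le_max_left c₁ c₂).trans hn)] at hDv
    have hDv' : D v ∈ J ^ (n - max c₁ c₂) • LinearMap.range D :=
      Submodule.smul_mono (Ideal.pow_le_pow_right (Nat.sub_le_sub_left (le_max_left c₁ c₂) n))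
        inf_le_right hDv
    rw [LinearMap.range_eq_map, ← Submodule.map_smul''] at hDv'
    obtain ⟨w, hw, e⟩ := hDv'
    obtain ⟨h, hh⟩ : v - w ∈ LinearMap.range E := by
      rw [hrange, LinearMap.mem_ker, map_sub, e, sub_self]
    refine ⟨h, fun y hy => ?_⟩
    refine fun u => LinearMap.congr_fun (LinearMap.ext_on_range (hgen y (hUW hy))
      (f := (stalkLin (Formal2.modPowLE I (Nat.sub_le n (max c₁ c₂)) N) y).comp (stalkLin χ y))
      (g := (stalkLin (Formal.modPowπ I (n - max c₁ c₂) N) y).comp (h.1 ⟨y, hy⟩)) fun i => ?_) u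
    rw [LinearMap.comp_apply, LinearMap.comp_apply, ← hvy y hy i, ← stalkLin_comp, ← hEv, hh,
      Formal2.modPowπ_modPowLE, Pi.sub_apply, map_sub, map_sub]
    have h0 : N.presheaf.germ U y hy (w i) ∈ Fil I (n - max c₁ c₂) N y := by
      refine germ_mem_of_mem hy _ ?_
      rw [hJ]
      exact (pi_mem_smul_top _).1 hw i
    rw [(mem_fil_iff I _ N y _).1 h0, sub_zero]

end GrothLib.FormalFun
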