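import Groth.Agent.Lib.FormalFun.HomLift
import Groth.Agent.Lib.ProjCoh.Finite

/-!
# Morphisms of coherent modules and of their completions
-/

universe u

open CategoryTheory CategoryTheory.Limits AlgebraicGeometry Opposite TopologicalSpace

namespace GrothLib.FormalFun

open GrothLib.FormalSys GrothLib.QCoh GrothLib.HomSh GrothLib.Cohom

variable {X : Scheme.{u}} {M N : X.Modules}

theorem section_ext_germ (F : X.Modules) {U : X.Opens} {s t : Γ(F, U)}
    (h : ∀ (y : X) (hy : y ∈ U), F.presheaf.germ U y hy s = F.presheaf.germ U y hy t) : s = t :=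
  TopCat.Presheaf.section_ext (C := Ab.{u}) (X := X.carrier) ⟨F.presheaf, F.isSheaf⟩ U s t h

theorem hom_ext_stalkLin {φ φ' : M ⟶ N}
    (h : ∀ (y : X) (v : M.presheaf.stalk y), stalkLin φ y v = stalkLin φ' y v) : φ = φ' :=
  Scheme.Modules.hom_ext _ _ fun U => by
    ext s
    refine section_ext_germ N fun y hy => ?_
    rw [← stalkLin_germ φ, ← stalkLin_germ φ', h]

theorem stalkLin_eq_stalkMap (φ : M ⟶ N) (y : X) (v : M.presheaf.stalk y) :
    stalkLin φ y v = RefHull.stalkMapₗ φ y v := by
  obtain ⟨U, hy, s, rfl⟩ := TopCat.Presheaf.exists_germ_eq M.presheaf v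
  rw [stalkLin_germ, RefHull.stalkMapₗ_germ]

theorem evalStalk_germ {U : X.Opens} (g : Γ(RefHull.homSh M N, U)) (y : X) (hy : y ∈ U) :
    RefHull.evalStalk M N y ((RefHull.homSh M N).presheaf.germ U y hy g) = g.1 ⟨y, hy⟩ :=
  RefHull.evalAdd_germ M N y hy g

/-- A global section of the sheaf Hom is a morphism. -/
theorem exists_hom_of_section (g : Γ(RefHull.homSh M N, ⊤)) :
    ∃ φ : M ⟶ N, ∀ (y : X) (v : M.presheaf.stalk y), stalkLin φ y v = g.1 ⟨y, trivial⟩ v := by
  let r : ∀ U : X.Opens, Γ(RefHull.homSh M N, U) := fun U =>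
    (RefHull.homSh M N).presheaf.map (homOfLE (le_top : U ≤ ⊤)).op g
  choose app happ using fun (U : X.Opens) (m : Γ(M, U)) => (existsUnique_apply (r U) m).exists
  have happ' : ∀ (U : X.Opens) (m : Γ(M, U)) (y : X) (hy : y ∈ U),
      g.1 ⟨y, trivial⟩ (M.presheaf.germ U y hy m) = N.presheaf.germ U y hy (app U m) :=
    fun U m y hy => happ U m y hy
  let α : M.presheaf ⟶ N.presheaf :=
    { app := fun U => AddCommGrpCat.ofHom
        { toFun := app U.unop
          map_zero' := section_ext_germ N fun y hy => by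
            refine (happ' _ _ y hy).symm.trans ?_
            erw [map_zero, map_zero, map_zero]
          map_add' := fun a b => section_ext_germ N fun y hy => by
            refine (happ' _ _ y hy).symm.trans ?_
            erw [map_add, map_add, map_add, happ', happ'] }
      naturality := fun U V i => by
        ext m
        refine section_ext_germ N fun y hy => ?_
        change N.presheaf.germ V.unop y hy (app V.unop (M.presheaf.map i m)) =
          N.presheaf.germ V.unop y hy (N.presheaf.map i (app U.unop m))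
        rw [← happ', show i = i.unop.op from rfl, TopCat.Presheaf.germ_res_apply,
          TopCat.Presheaf.germ_res_apply, happ'] }
  let φ : M ⟶ N := ⟨PresheafOfModules.homMk α fun U (a : Γ(X, U.unop)) (m : Γ(M, U.unop)) =>
    section_ext_germ N fun y hy => by
      change N.presheaf.germ U.unop y hy (app U.unop (a • m)) =
        N.presheaf.germ U.unop y hy (a • app U.unop m)
      rw [← happ', WeakAss.germ_smul, WeakAss.germ_smul, map_smul, happ']⟩
  refine ⟨φ, fun y v => ?_⟩
  obtain ⟨U, hy, s, rfl⟩ := TopCat.Presheaf.exists_germ_eq M.presheaf v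
  rw [stalkLin_germ]
  exact (happ' U s y hy).symm

variable {A : Type u} [CommRing A] [X.Over (Spec (CommRingCat.of A))]

theorem completion_map_eq_modPowLE (I : Ideal A) (M : X.Modules) {m n : ℕ} (h : n ≤ m) :
    (Formal.completion I M).map (homOfLE h).op =
      Formal2.modPowLE I (Nat.succ_le_succ h) M := by
  have := epi_modPowπ I (m + 1) M
  refine (cancel_epi (Formal.modPowπ I (m + 1) M)).1 ?_
  exact (modPowπ_completion_map M h).trans (Formal2.modPowπ_modPowLE I _ M).symm

theorem eval_mem_fil (I : Ideal A) (n : ℕ) (y : X) {δ : (RefHull.homSh M N).presheaf.stalk y}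
    (hδ : δ ∈ Fil I n (RefHull.homSh M N) y) (v : M.presheaf.stalk y) :
    RefHull.evalStalk M N y δ v ∈ Fil I n N y := by
  let ev : (RefHull.homSh M N).presheaf.stalk y →ₗ[X.presheaf.stalk y] N.presheaf.stalk y :=
    (LinearMap.applyₗ v).comp (RefHull.evalStalk M N y)
  have := Submodule.mem_map_of_mem (f := ev) hδ
  rw [Submodule.map_smul''] at this
  exact Submodule.smul_mono le_rfl le_top this

variable [IsLocallyNoetherian X]

/-- Morphisms of completions come from a unique morphism, given formal functions for the sheaf Hom. -/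
theorem existsUnique_hom (I : Ideal A) (hM : Coh.IsCoh M) (hN : Coh.IsCoh N)
    (hbij : Bij I (RefHull.homSh M N) 0) (ψ : Formal.completion I M ⟶ Formal.completion I N) :
    ∃! φ : M ⟶ N, ∀ n : ℕ,
      Formal.modPowπ I (n + 1) M ≫ ψ.app (op n) = φ ≫ Formal.modPowπ I (n + 1) N := by
  classical
  set H := RefHull.homSh M N with hHdef
  choose U hU c hsub hlift using exists_artinRees_homSh I (hasRel_of_isCoh hM) hN
  -- the maps to all levels
  let ψ' : ∀ m, M ⟶ Formal.modPow I m N := fun m => Formal.modPowπ I (m + 1) M ≫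
    (show Formal.modPow I (m + 1) M ⟶ Formal.modPow I (m + 1) N from ψ.app (op m)) ≫
      Formal2.modPowLE I (Nat.le_succ m) N
  have hψ'_anti : ∀ (m l : ℕ) (h : m ≤ l), ψ' l ≫ Formal2.modPowLE I h N = ψ' m := by
    intro m l h
    have hn : (Formal.completion I M).map (homOfLE h).op ≫ ψ.app (op m) =
        ψ.app (op l) ≫ (Formal.completion I N).map (homOfLE h).op := ψ.naturality _
    rw [completion_map_eq_modPowLE, completion_map_eq_modPowLE] at hn
    simp only [ψ', Category.assoc, modPowLE_comp]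
    rw [← modPowLE_comp I (Nat.le_succ m) (Nat.succ_le_succ h) N,
      ← Formal2.modPowπ_modPowLE I (Nat.succ_le_succ h) M]
    simp only [Category.assoc]
    congr 1
    exact ((Category.assoc _ _ _).symm.trans ((congrArg (· ≫ _) hn.symm).trans (Category.assoc _ _ _)))
  have hψ' : ∀ n, ψ' (n + 1) = Formal.modPowπ I (n + 1) M ≫ ψ.app (op n) := fun n => by
    rw [← hψ'_anti (n + 1) (n + 1) le_rfl]
    have hn : (Formal.completion I M).map (homOfLE (Nat.le_succ n)).op ≫ ψ.app (op n) =
        ψ.app (op (n + 1)) ≫ (Formal.completion I N).map (homOfLE (Nat.le_succ n)).op := ψ.naturality _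
    rw [completion_map_eq_modPowLE, completion_map_eq_modPowLE] at hn
    simp only [ψ', Category.assoc, modPowLE_comp]
    refine (congrArg (Formal.modPowπ I (n + 1 + 1) M ≫ ·) hn).symm.trans ?_
    exact (Category.assoc _ _ _).symm.trans (congrArg (· ≫ _) (Formal2.modPowπ_modPowLE I _ M))
  let Agree : ∀ (_ : ℕ) (y : X), (M.presheaf.stalk y →ₗ[X.presheaf.stalk y] N.presheaf.stalk y) → Prop :=
    fun m y f => ∀ v, stalkLin (ψ' m) y v = stalkLin (Formal.modPowπ I m N) y (f v)
  have hanti : ∀ {m l : ℕ} (_ : m ≤ l) {y : X} {f}, Agree l y f → Agree m y f := by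
    intro m l h y f hf v
    rw [← hψ'_anti m l h, stalkLin_comp, hf v, ← stalkLin_comp, Formal2.modPowπ_modPowLE]
  have hdiff : ∀ {m : ℕ} {y : X} {f f'}, Agree m y f → Agree m y f' →
      ∀ v, (f - f') v ∈ Fil I m N y := fun hf hf' v => by
    rw [mem_fil_iff, LinearMap.sub_apply, map_sub, ← hf, ← hf', sub_self]
  have hgerm0 : ∀ (k : ℕ) (y : X) (δ : H.presheaf.stalk y), δ ∈ Fil I k H y →
      stalkLin (Formal.modPowπ I k H) y δ = 0 := fun k y δ h => (mem_fil_iff I k H y δ).1 h
  -- the local lifts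
  have hlift' : ∀ k x, ∃ h : Γ(H, U x), ∀ (y : X) (hy : y ∈ U x), Agree (k + c x) y (h.1 ⟨y, hy⟩) := by
    intro k x
    obtain ⟨h, hh⟩ := hlift x (k + c x + c x) (Nat.le_add_left _ _) (ψ' (k + c x + c x))
    refine ⟨h, fun y hy => hanti (by omega : k + c x ≤ k + c x + c x - c x) fun v => ?_⟩
    rw [← hψ'_anti _ _ (Nat.sub_le (k + c x + c x) (c x)), stalkLin_comp]
    exact hh y hy v
  choose h hh using hlift'
  have hagree : ∀ (k : ℕ) (x z : X) (y : X) (hx : y ∈ U x) (hz : y ∈ U z) (l : ℕ), k ≤ l →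
      stalkLin (Formal.modPowπ I k H) y (H.presheaf.germ (U x) y hx (h k x)) =
        stalkLin (Formal.modPowπ I k H) y (H.presheaf.germ (U z) y hz (h l z)) := by
    intro k x z y hx hz l hl
    rw [← sub_eq_zero, ← map_sub]
    refine hgerm0 k y _ ?_
    rcases le_total (c x) (c z) with hc | hc
    · have := hsub x (k + c x) (Nat.le_add_left _ _) y hx
        (H.presheaf.germ (U x) y hx (h k x) - H.presheaf.germ (U z) y hz (h l z)) fun v => by
        rw [map_sub, evalStalk_germ, evalStalk_germ]
        exact hdiff (hh k x y hx) (hanti (by omega) (hh l z y hz)) v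
      rwa [Nat.add_sub_cancel] at this
    · have := hsub z (k + c z) (Nat.le_add_left _ _) y hz
        (H.presheaf.germ (U x) y hx (h k x) - H.presheaf.germ (U z) y hz (h l z)) fun v => by
        rw [map_sub, evalStalk_germ, evalStalk_germ]
        exact hdiff (hanti (by omega) (hh k x y hx)) (hanti (by omega) (hh l z y hz)) v
      rwa [Nat.add_sub_cancel] at this
  have hglue : ∀ k, ∃ s : Γ(Formal.modPow I k H, ⊤), ∀ (x y : X) (hy : y ∈ U x),
      (Formal.modPow I k H).presheaf.germ ⊤ y trivial s =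
        stalkLin (Formal.modPowπ I k H) y (H.presheaf.germ (U x) y hy (h k x)) := by
    intro k
    let sf : ∀ x, Γ(Formal.modPow I k H, U x) := fun x => (Formal.modPowπ I k H).app (U x) (h k x)
    have hcomp : TopCat.Presheaf.IsCompatible (C := Ab.{u}) (Formal.modPow I k H).presheaf U sf := by
      intro x z
      refine section_ext_germ _ fun y hy => ?_
      change (Formal.modPow I k H).presheaf.germ _ y hy ((Formal.modPow I k H).presheaf.map _ (sf x)) =
        (Formal.modPow I k H).presheaf.germ _ y hy ((Formal.modPow I k H).presheaf.map _ (sf z))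
      rw [TopCat.Presheaf.germ_res_apply, TopCat.Presheaf.germ_res_apply, ← stalkLin_germ, ← stalkLin_germ]
      exact hagree k x z y hy.1 hy.2 k le_rfl
    obtain ⟨s, hs, -⟩ := TopCat.Sheaf.existsUnique_gluing' ⟨(Formal.modPow I k H).presheaf,
      (Formal.modPow I k H).isSheaf⟩ U ⊤ (fun x => homOfLE le_top)
      (fun y _ => Opens.mem_iSup.2 ⟨y, hU y⟩) sf hcomp
    refine ⟨s, fun x y hy => ?_⟩
    have := congrArg ((Formal.modPow I k H).presheaf.germ (U x) y hy) (hs x)
    erw [TopCat.Presheaf.germ_res_apply] at this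
    rw [stalkLin_germ]
    exact this
  choose s hs using hglue
  have hcompat : ∀ k, (Formal.modPowTrans I (k + 1) H).app ⊤ (s (k + 1 + 1)) = s (k + 1) := by
    intro k
    refine section_ext_germ _ fun y _ => ?_
    rw [← stalkLin_germ, hs (k + 1 + 1) y y (hU y), hs (k + 1) y y (hU y), ← stalkLin_comp,
      Formal.modPowπ_trans]
    exact (hagree (k + 1) y y y (hU y) (hU y) (k + 1 + 1) (Nat.le_succ _)).symm
  have hH0 : ∀ {P Q : X.Modules} (f : P ⟶ Q) (z : Coh.HH X P 0),
      ProjCoh.H0top Q (hhMap A f 0 z) = f.app ⊤ (ProjCoh.H0top P z) := fun f z =>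
    ProjCoh.H0top_map ((QCoh.toAbFun X).map f) z
  obtain ⟨x₀, hx₀⟩ := hbij.2 (fun n => (ProjCoh.H0top _).symm (s (n + 1))) fun n => by
    apply (ProjCoh.H0top _).injective
    rw [hH0, AddEquiv.apply_symm_apply, AddEquiv.apply_symm_apply]
    exact hcompat n
  let g : Γ(H, ⊤) := ProjCoh.H0top H x₀
  have hg : ∀ n, (Formal.modPowπ I (n + 1) H).app ⊤ g = s (n + 1) := fun n => by
    rw [← hH0, hx₀ n, AddEquiv.apply_symm_apply]
  obtain ⟨φ, hφ⟩ := exists_hom_of_section g
  refine ⟨φ, fun n => ?_, fun φ' hφ' => ?_⟩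
  · refine hom_ext_stalkLin fun y v => ?_
    rw [← hψ' n]
    refine Eq.trans ?_ (stalkLin_comp φ (Formal.modPowπ I (n + 1) N) y v).symm
    rw [hφ]
    have h1 := hh (n + 1) y y (hU y)
    have h2 := hanti (Nat.le_add_right (n + 1) (c y)) h1
    refine (h2 v).trans ?_
    rw [← sub_eq_zero, ← map_sub, ← mem_fil_iff]
    have hδ : H.presheaf.germ (U y) y (hU y) (h (n + 1) y) - H.presheaf.germ ⊤ y trivial g ∈
        Fil I (n + 1) H y := by
      rw [mem_fil_iff, map_sub, ← hs (n + 1) y y (hU y), ← hg n, stalkLin_germ, sub_self]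
    have := eval_mem_fil I (n + 1) y hδ v
    rwa [map_sub, evalStalk_germ, evalStalk_germ, LinearMap.sub_apply] at this
  · -- uniqueness
    let g' : Γ(H, ⊤) := RefHull.ofHom φ' ⊤
    have hg' : ∀ (y : X) (v : M.presheaf.stalk y), g'.1 ⟨y, trivial⟩ v = stalkLin φ' y v :=
      fun y v => (stalkLin_eq_stalkMap φ' y v).symm
    suffices g' = g from hom_ext_stalkLin fun y v => by rw [← hg', this, hφ]
    apply (ProjCoh.H0top H).symm.injective
    rw [← sub_eq_zero]
    refine hbij.1 _ fun n => ?_
    apply (ProjCoh.H0top _).injective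
    rw [hH0, map_zero, map_sub, AddEquiv.apply_symm_apply, AddEquiv.apply_symm_apply, map_sub, hg,
      sub_eq_zero]
    refine section_ext_germ _ fun y _ => ?_
    rw [hs (n + 1) y y (hU y), ← stalkLin_germ, ← sub_eq_zero, ← map_sub]
    refine hgerm0 (n + 1) y _ ?_
    have := hsub y (n + 1 + c y) (Nat.le_add_left _ _) y (hU y)
      (H.presheaf.germ ⊤ y trivial g' - H.presheaf.germ (U y) y (hU y) (h (n + 1) y)) fun v => by
      rw [map_sub, evalStalk_germ, evalStalk_germ]
      refine hdiff (fun w => ?_) (hh (n + 1) y y (hU y)) v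
      rw [hg', ← stalkLin_comp]
      obtain ⟨l, hl⟩ : ∃ l, n + 1 + c y = l + 1 := ⟨n + c y, by omega⟩
      rw [hl, hψ' l, hφ' l]
    rwa [Nat.add_sub_cancel] at this

end GrothLib.FormalFun
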