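import Groth.Agent.Lib.FormalSys.Principal
import Groth.Agent.Lib.QCoh.DevissageRoots
import Groth.Agent.Lib.QCoh.SupportExact
import Groth.Agent.Lib.WeakAss.Basic
import Groth.Agent.Lib.Euler.Scalar

/-!
# The quotient by an ideal of the base on stalks and on affine sections
-/

universe u

open CategoryTheory CategoryTheory.Limits AlgebraicGeometry Opposite TopologicalSpace

namespace GrothLib.FormalFun

open GrothLib.FormalSys GrothLib.QCoh

attribute [local instance] Abelian.hasFiniteBiproducts

variable {A : Type u} [CommRing A] {X : Scheme.{u}} [X.Over (Spec (CommRingCat.of A))]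

/-- The base ring mapped to the functions on an open. -/
noncomputable def toSec (A : Type u) [CommRing A] [X.Over (Spec (CommRingCat.of A))] (U : X.Opens) :
    A →+* Γ(X, U) :=
  (X.presheaf.map (homOfLE (le_top : U ≤ ⊤)).op).hom.comp
    (show A →+* Γ(X, ⊤) from Coh.toGlobal (X ↘ Spec (CommRingCat.of A)))

/-- The base ring mapped to a local ring. -/
noncomputable def toStalk (A : Type u) [CommRing A] [X.Over (Spec (CommRingCat.of A))] (y : X) :
    A →+* X.presheaf.stalk y :=
  (X.presheaf.germ ⊤ y trivial).hom.comp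
    (show A →+* Γ(X, ⊤) from Coh.toGlobal (X ↘ Spec (CommRingCat.of A)))

theorem germ_toSec {U : X.Opens} {y : X} (hy : y ∈ U) (a : A) :
    X.presheaf.germ U y hy (toSec A U a) = toStalk A y a :=
  TopCat.Presheaf.germ_res_apply X.presheaf _ _ _ _

theorem stalkLin_smulMod (M : X.Modules) (a : A) (y : X) (e : M.presheaf.stalk y) :
    stalkLin (Formal.smulMod A M a) y e = toStalk A y a • e :=
  GrothLib.Euler.stalkLin_smulMod M _ y e

theorem stalkLin_zero {M N : X.Modules} (y : X) (e : M.presheaf.stalk y) :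
    stalkLin (0 : M ⟶ N) y e = 0 :=
  LinearMap.congr_fun (congrArg ModuleCat.Hom.hom ((OX.stalk y).map_zero M N)) e

theorem stalkLin_sum {M N : X.Modules} {ι : Type*} (s : Finset ι) (f : ι → (M ⟶ N)) (y : X)
    (e : M.presheaf.stalk y) : stalkLin (∑ i ∈ s, f i) y e = ∑ i ∈ s, stalkLin (f i) y e := by
  classical
  induction s using Finset.induction_on with
  | empty => rw [Finset.sum_empty, Finset.sum_empty, stalkLin_zero]
  | insert a s ha ih => rw [Finset.sum_insert ha, Finset.sum_insert ha, stalkLin_add, ih]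

variable {J : Ideal A} {M N : X.Modules} {π : M ⟶ N}

/-- The stalk of the quotient by `J` is the quotient of the stalk by `J`. -/
theorem ker_stalkLin_of_isQuot (hπ : IsQuot J π) (y : X) :
    LinearMap.ker (stalkLin π y) =
      (J.map (toStalk A y)) • (⊤ : Submodule (X.presheaf.stalk y) (M.presheaf.stalk y)) := by
  apply le_antisymm
  · set S : Submodule (X.presheaf.stalk y) (M.presheaf.stalk y) := (J.map (toStalk A y)) • ⊤
    -- the map to the skyscraper at `y` of the quotient
    let Q : ModuleCat.{u} (X.presheaf.stalk y) := ModuleCat.of _ (M.presheaf.stalk y ⧸ S)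
    let q : (OX.stalk y).obj M ⟶ Q := ModuleCat.ofHom S.mkQ
    let φ : M ⟶ (OX.sky y).obj Q := (OX.stalkSkyAdj y).homEquiv M Q q
    have hφ : ∀ a ∈ J, Formal.smulMod A M a ≫ φ = 0 := fun a ha => by
      have h0 : (OX.stalk y).map (Formal.smulMod A M a) ≫ q = 0 := ModuleCat.hom_ext <| LinearMap.ext fun e => by
        change S.mkQ (stalkLin (Formal.smulMod A M a) y e) = 0
        rw [stalkLin_smulMod, Submodule.mkQ_apply, Submodule.Quotient.mk_eq_zero]
        exact Submodule.smul_mem_smul (Ideal.mem_map_of_mem _ ha) trivial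
      apply ((OX.stalkSkyAdj y).homEquiv M Q).symm.injective
      rw [Adjunction.homEquiv_naturality_left_symm, Equiv.symm_apply_apply, h0,
        Adjunction.homEquiv_counit, Functor.map_zero, zero_comp]
    obtain ⟨ψ, hψ⟩ := hπ.exists_desc φ hφ
    have hq : q = (OX.stalk y).map π ≫ ((OX.stalkSkyAdj y).homEquiv N Q).symm ψ := by
      rw [← Adjunction.homEquiv_naturality_left_symm, hψ, Equiv.symm_apply_apply]
    intro e he
    rw [← Submodule.Quotient.mk_eq_zero, ← Submodule.mkQ_apply]
    refine (LinearMap.congr_fun (congrArg ModuleCat.Hom.hom hq) e).trans ?_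
    change (((OX.stalkSkyAdj y).homEquiv N Q).symm ψ).hom (stalkLin π y e) = 0
    exact (congrArg _ (LinearMap.mem_ker.1 he)).trans (map_zero _)
  · rw [Ideal.map, Submodule.smul_le]
    intro r hr e _
    induction hr using Submodule.span_induction with
    | mem z hz =>
      obtain ⟨a, ha, rfl⟩ := hz
      rw [LinearMap.mem_ker, ← stalkLin_smulMod, ← stalkLin_comp, hπ.comp_eq_zero a ha, stalkLin_zero]
    | zero => rw [zero_smul]; exact zero_mem _
    | add z w _ _ hz hw => rw [add_smul]; exact add_mem hz hw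
    | smul c z _ hz => rw [smul_assoc]; exact Submodule.smul_mem _ c hz

/-- Germs of multiples by `J`. -/
theorem germ_mem_of_mem {U : X.Opens} {y : X} (hy : y ∈ U) (J : Ideal A) {z : Γ(M, U)}
    (hz : z ∈ (J.map (toSec A U)) • (⊤ : Submodule Γ(X, U) Γ(M, U))) :
    M.presheaf.germ U y hy z ∈
      (J.map (toStalk A y)) • (⊤ : Submodule (X.presheaf.stalk y) (M.presheaf.stalk y)) := by
  have hle : (J.map (toSec A U)).map (X.presheaf.germ U y hy).hom ≤ J.map (toStalk A y) := by
    rw [Ideal.map_map]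
    exact le_of_eq (congrArg (fun f : A →+* _ => J.map f) (RingHom.ext fun a => germ_toSec hy a))
  refine Submodule.smul_induction_on hz (fun r hr w _ => ?_) fun z w hz hw => ?_
  · rw [WeakAss.germ_smul]
    exact Submodule.smul_mem_smul (hle (Ideal.mem_map_of_mem _ hr)) trivial
  · rw [map_add]; exact add_mem hz hw

/-- A multiple by `J` at a stalk is, up to a unit, the germ of a multiple by `J`. -/
theorem exists_mem_of_mem_stalk [M.IsQuasicoherent] {U : X.Opens} (hU : IsAffineOpen U) {y : X}
    (hy : y ∈ U) (J : Ideal A) {v : M.presheaf.stalk y}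
    (hv : v ∈ (J.map (toStalk A y)) • (⊤ : Submodule (X.presheaf.stalk y) (M.presheaf.stalk y))) :
    ∃ c ∉ WeakAss.primeAt y hy, ∃ z ∈ (J.map (toSec A U)) • (⊤ : Submodule Γ(X, U) Γ(M, U)),
      X.presheaf.germ U y hy c • v = M.presheaf.germ U y hy z := by
  have hp : (WeakAss.primeAt y hy).IsPrime := inferInstance
  refine Submodule.smul_induction_on hv (fun r hr w hw => ?_) fun v w hv hw => ?_
  · induction hr using Submodule.span_induction generalizing w with
    | mem r hr =>
      obtain ⟨a, ha, rfl⟩ := hr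
      obtain ⟨c, z, hc, hz⟩ := WeakAss.exists_smul_eq_germ hU hy w
      refine ⟨c, hc, toSec A U a • z, Submodule.smul_mem_smul (Ideal.mem_map_of_mem _ ha) trivial, ?_⟩
      rw [smul_comm, hz, WeakAss.germ_smul, germ_toSec]
    | zero => exact ⟨1, fun h => hp.ne_top ((Ideal.eq_top_iff_one _).2 h), 0, zero_mem _,
        by rw [zero_smul, smul_zero, map_zero]⟩
    | add r s _ _ hr hs =>
      obtain ⟨c, hc, z, hz, e⟩ := hr w trivial
      obtain ⟨d, hd, z', hz', e'⟩ := hs w trivial
      refine ⟨c * d, fun h => (hp.mem_or_mem h).elim hc hd, d • z + c • z',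
        add_mem (Submodule.smul_mem _ _ hz) (Submodule.smul_mem _ _ hz'), ?_⟩
      rw [add_smul, smul_add, map_mul, map_add, WeakAss.germ_smul, WeakAss.germ_smul, ← e, ← e',
        smul_smul, smul_smul, smul_smul, smul_smul, smul_smul, smul_smul]
      congr 2 <;> ring
    | smul t r _ hr => rw [smul_assoc, smul_comm t r]; exact hr (t • w) trivial
  · obtain ⟨c, hc, z, hz, e⟩ := hv
    obtain ⟨d, hd, z', hz', e'⟩ := hw
    refine ⟨c * d, fun h => (hp.mem_or_mem h).elim hc hd, d • z + c • z',
      add_mem (Submodule.smul_mem _ _ hz) (Submodule.smul_mem _ _ hz'), ?_⟩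
    rw [smul_add, map_mul, map_add, WeakAss.germ_smul, WeakAss.germ_smul, ← e, ← e', smul_smul,
      smul_smul, mul_comm]

/-- Up to a unit at `y`, a section whose germ is a multiple by `J` is a multiple by `J`. -/
theorem exists_smul_mem_of_germ_mem [M.IsQuasicoherent] {U : X.Opens} (hU : IsAffineOpen U) {y : X}
    (hy : y ∈ U) (J : Ideal A) {z : Γ(M, U)}
    (hz : M.presheaf.germ U y hy z ∈
      (J.map (toStalk A y)) • (⊤ : Submodule (X.presheaf.stalk y) (M.presheaf.stalk y))) :
    ∃ c ∉ WeakAss.primeAt y hy, c • z ∈ (J.map (toSec A U)) • (⊤ : Submodule Γ(X, U) Γ(M, U)) := by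
  have hp : (WeakAss.primeAt y hy).IsPrime := inferInstance
  obtain ⟨c, hc, w, hw, e⟩ := exists_mem_of_mem_stalk hU hy J hz
  rw [← WeakAss.germ_smul, ← sub_eq_zero, ← map_sub, WeakAss.germ_eq_zero_iff hU hy] at e
  obtain ⟨d, hd, h0⟩ := e
  refine ⟨d * c, fun h => (hp.mem_or_mem h).elim hd hc, ?_⟩
  rw [smul_sub, sub_eq_zero] at h0
  rw [mul_smul, h0]
  exact Submodule.smul_mem _ _ hw

/-- Being a multiple by `J` on an affine open is local. -/
theorem mem_of_forall_germ_mem [M.IsQuasicoherent] {U : X.Opens} (hU : IsAffineOpen U) (J : Ideal A)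
    {z : Γ(M, U)} (h : ∀ (y : X) (hy : y ∈ U), M.presheaf.germ U y hy z ∈
      (J.map (toStalk A y)) • (⊤ : Submodule (X.presheaf.stalk y) (M.presheaf.stalk y))) :
    z ∈ (J.map (toSec A U)) • (⊤ : Submodule Γ(X, U) Γ(M, U)) := by
  set S := (J.map (toSec A U)) • (⊤ : Submodule Γ(X, U) Γ(M, U))
  let K : Ideal Γ(X, U) := S.comap (LinearMap.toSpanSingleton Γ(X, U) Γ(M, U) z)
  suffices (1 : Γ(X, U)) ∈ K by simpa [K] using this
  rw [← Ideal.eq_top_iff_one]
  by_contra hK
  obtain ⟨p, hp, hKp⟩ := Ideal.exists_le_maximal K hK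
  let q : PrimeSpectrum Γ(X, U) := ⟨p, hp.isPrime⟩
  have hy := WeakAss.fromSpec_mem hU q
  obtain ⟨c, hc, hcz⟩ := exists_smul_mem_of_germ_mem hU hy J (h _ hy)
  rw [WeakAss.primeAt_fromSpec hU q hy] at hc
  exact hc (hKp hcz)

end GrothLib.FormalFun
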