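import Groth.Agent.Lib.FormalFun.HomComplete
import Groth.Agent.Lib.ProjCoh.SupportFinite

/-!
# Full faithfulness of completion for proper supports
-/

universe u

open CategoryTheory CategoryTheory.Limits AlgebraicGeometry Opposite TopologicalSpace

namespace GrothLib.FormalFun

variable {A : Type u} [CommRing A] [IsNoetherianRing A] {X : Scheme.{u}}
  [X.Over (Spec (CommRingCat.of A))] [LocallyOfFiniteType (X ↘ Spec (CommRingCat.of A))]
  [QuasiCompact (X ↘ Spec (CommRingCat.of A))]

/-- Morphisms of completions come from unique morphisms when the intersection of the supports is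
proper over the base. -/
theorem existsUnique_hom_of_isProperOver (I : Ideal A) [IsAdicComplete I A] (M N : X.Modules)
    (hM : Coh.IsCoh M) (hN : Coh.IsCoh N)
    (hs : ClSub.IsProperOver (X ↘ Spec (CommRingCat.of A)) (CohB1.support M ∩ CohB1.support N))
    (ψ : Formal.completion I M ⟶ Formal.completion I N) :
    ∃! φ : M ⟶ N, ∀ n : ℕ,
      Formal.modPowπ I (n + 1) M ≫ ψ.app (op n) = φ ≫ Formal.modPowπ I (n + 1) N := by
  have : IsLocallyNoetherian X :=
    LocallyOfFiniteType.isLocallyNoetherian (X ↘ Spec (CommRingCat.of A))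
  have : CompactSpace X :=
    QuasiCompact.compactSpace_of_compactSpace (X ↘ Spec (CommRingCat.of A))
  have : IsNoetherian X := {}
  have hrel := HomSh.hasRel_of_isCoh hM
  have hH := HomSh.isCoh_homSh hrel hN
  refine existsUnique_hom I hM hN (bij_of_finite I
    (fun F => Coh.IsCoh F ∧ ClSub.IsProperOver (X ↘ Spec (CommRingCat.of A)) (CohB1.support F))
    (fun _ h => h.1)
    (fun π _ h hF => ⟨hF, ProperOver.IsProperOver.subset _ h.2
      (QCoh.isClosed_support_of_isCoh hF) (QCoh.support_subset_of_epi π)⟩)
    (fun F hF q => ProjCoh.moduleFinite_HH_of_isProperOver A F hF.1 hF.2 q) _ ⟨hH, ?_⟩ 0) ψ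
  refine ProperOver.IsProperOver.subset _ hs (QCoh.isClosed_support_of_isCoh hH) fun y hy => ?_
  by_contra hn
  refine hy ?_
  refine subsingleton_of_forall_eq 0 fun δ => (HomSh.HasRel.evalStalk_bijective hrel N y).1 ?_
  rw [map_zero]
  ext v
  rcases not_and_or.1 hn with h | h
  · rw [@Subsingleton.elim _ (QCoh.stalk_subsingleton_of_notMem h) v 0, map_zero, map_zero]
  · exact @Subsingleton.elim _ (QCoh.stalk_subsingleton_of_notMem h) _ _

end GrothLib.FormalFun
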