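import Groth.Agent.Lib.FormalFun.Levels
import Groth.Agent.Lib.Euler.Rank
import Mathlib.RingTheory.AdicCompletion.Basic

/-!
# Local freeness from the levels of a completion
-/

set_option autoImplicit false
universe u

open CategoryTheory CategoryTheory.Limits AlgebraicGeometry Opposite TopologicalSpace
open scoped TensorProduct

namespace GrothLib.FormalFun

open GrothLib.CartierDescent

variable {X : Scheme.{u}}

theorem exists_stalk_equiv_of_levels [IsLocallyNoetherian X] {F : X.Modules} (hF : Coh.IsCoh F)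
    (J : X.IdealSheafData) (r : ℕ)
    (h : ∀ n : ℕ, FlatMod.IsFinLocFreeOfRank r ((Scheme.Modules.pullback (J ^ (n + 1)).subschemeι).obj F))
    {y : X} (hy : y ∈ J.support) :
    Nonempty (F.presheaf.stalk y ≃ₗ[X.presheaf.stalk y] (Fin r → X.presheaf.stalk y)) := by
  have := hF.1
  haveI := GrothLib.FittSheaf.finite_stalk hF.2 y
  have hK : stalkIdeal J y ≠ ⊤ := fun hc => (stalkIdeal_eq_top_iff J y).1 hc hy
  choose z hz using fun n => exists_level_point J n hy
  have key : ∀ n, ∃ (S : Type u) (_ : CommRing S) (_ : Algebra (X.presheaf.stalk y) S),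
      Function.Surjective (algebraMap (X.presheaf.stalk y) S) ∧
      RingHom.ker (algebraMap (X.presheaf.stalk y) S) = stalkIdeal J y ^ (n + 1) ∧
      Nonempty ((S ⊗[X.presheaf.stalk y] F.presheaf.stalk y) ≃ₗ[S] (Fin r → S)) := by
    intro n
    obtain rfl := hz n
    let i := (J ^ (n + 1)).subschemeι
    obtain ⟨D, e, hx, he⟩ := FinCov.exists_frame_nhd_of_rank (h n) (z n)
    obtain ⟨b⟩ := Euler.stalk_basis_of_frame he hx
    exact ⟨(J ^ (n + 1)).subscheme.presheaf.stalk (z n), inferInstance, (i.stalkMap (z n)).hom.toAlgebra,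
      i.stalkMap_surjective (z n), ker_stalkMap_level J n (z n),
      ⟨((OX.pullStalkIso i (z n)).app F).toLinearEquiv.symm.trans b.equivFun⟩⟩
  choose S iS iA hs hk he using key
  exact exists_equiv_of_forall_level hK r S hs hk fun n => (he n).some

theorem mem_support_idealSpec_comap {A : Type u} [CommRing A] (I : Ideal A) [IsAdicComplete I A]
    (f : X ⟶ Spec (CommRingCat.of A)) [IsProper f] {x : X} (hx : IsClosed ({x} : Set X)) :
    x ∈ ((FSch.idealSpec A I).comap f).support := by
  rw [Scheme.IdealSheafData.support_comap]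
  change f x ∈ (FSch.idealSpec A I).support
  have hc : IsClosed ({f x} : Set (Spec (CommRingCat.of A))) := by
    rw [← Set.image_singleton]
    exact f.isClosedMap _ hx
  have hmax : (f x).asIdeal.IsMaximal := (PrimeSpectrum.isClosed_singleton_iff_isMaximal _).1 hc
  have hI : I ≤ (f x).asIdeal := (IsAdicComplete.le_jacobson_bot I).trans (sInf_le ⟨bot_le, hmax⟩)
  have hr : f x ∈ Set.range (Spec.map (CommRingCat.ofHom (Ideal.Quotient.mk I))) := by
    have := range_comap_of_surjective (A ⧸ I) (Ideal.Quotient.mk I) Ideal.Quotient.mk_surjective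
    rw [Ideal.mk_ker] at this
    exact this.symm.le hI
  obtain ⟨w, hw⟩ := hr
  rw [← hw, FSch.idealSpec]
  exact Scheme.Hom.range_subset_ker_support _ ⟨w, rfl⟩

theorem isFinLocFreeOfRank_of_levels {A : Type u} [CommRing A] [IsNoetherianRing A] (I : Ideal A)
    [IsAdicComplete I A] (f : X ⟶ Spec (CommRingCat.of A)) [IsProper f] {F : X.Modules} (hF : Coh.IsCoh F) (r : ℕ)
    (h : ∀ n : ℕ, FlatMod.IsFinLocFreeOfRank r
      ((Scheme.Modules.pullback (FSch.completionToX X ((FSch.idealSpec A I).comap f) n)).obj F)) :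
    FlatMod.IsFinLocFreeOfRank r F := by
  haveI : IsLocallyNoetherian (Spec (CommRingCat.of A)) := inferInstance
  haveI := LocallyOfFiniteType.isLocallyNoetherian f
  haveI : CompactSpace X := QuasiCompact.compactSpace_of_compactSpace f
  intro y
  obtain ⟨x, hxy, hx⟩ := (isClosed_closure (s := ({y} : Set X))).exists_closed_singleton
    ⟨y, subset_closure rfl⟩
  obtain ⟨ε⟩ := exists_stalk_equiv_of_levels hF ((FSch.idealSpec A I).comap f) r h
    (mem_support_idealSpec_comap I f hx)
  obtain ⟨U, n, e, hxU, he⟩ := Ref1.exists_frame_of_free (HomSh.hasRel_of_isCoh hF) (Module.Free.of_equiv ε.symm)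
  obtain ⟨b⟩ := Euler.stalk_basis_of_frame he hxU
  haveI : Nontrivial (X.presheaf.stalk x) := inferInstance
  obtain rfl : n = r := by
    have h1 := Module.finrank_eq_card_basis (b.map ε)
    rwa [Module.finrank_fin_fun, Fintype.card_fin, eq_comm] at h1
  exact ⟨U, (specializes_iff_mem_closure.2 hxy).mem_open U.2 hxU, FinCov.exists_iso_of_frame he⟩

end GrothLib.FormalFun
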