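import Groth.Agent.Lib.FormalSys.Principal
import Groth.Agent.Lib.Cohom.LinearLES
import Groth.Agent.Lib.QCoh.SupportExact
import Groth.Agent.Lib.QCoh.Filtration
import Groth.Agent.Lib.AdicExtra.Complete
import Groth.Agent.Lib.AdicLim.Finite

/-!
# The theorem on formal functions over a complete base

By induction on the number of generators of the ideal; the principal case uses the sequences
`0 → M/M[fᶜ] → M → M/fⁿM → 0` for `n ≥ c`.
-/

universe u

open CategoryTheory CategoryTheory.Limits AlgebraicGeometry Opposite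

namespace GrothLib.FormalFun

open GrothLib.Cohom GrothLib.FormalSys

variable {A : Type u} [CommRing A] {X : Scheme.{u}} [X.Over (Spec (CommRingCat.of A))]
variable {M N P : X.Modules}

theorem hhMap_comp (φ : M ⟶ N) (ψ : N ⟶ P) (p : ℕ) (x : Coh.HH X M p) :
    hhMap A ψ p (hhMap A φ p x) = hhMap A (φ ≫ ψ) p x := by
  rw [hhMap_apply, hhMap_apply, hhMap_apply, ← Sheaf.H.map_comp_apply, ← Functor.map_comp]

theorem hhMap_id (p : ℕ) (x : Coh.HH X M p) : hhMap A (𝟙 M) p x = x := by
  rw [hhMap_apply, CategoryTheory.Functor.map_id, Sheaf.H.map_id_apply]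

theorem hhMap_smulMod (a : A) (p : ℕ) (x : Coh.HH X M p) :
    hhMap A (Formal.smulMod A M a) p x = a • x := rfl

/-- The connecting map is natural in the short exact sequence. -/
theorem hhDelta_naturality {S T : ShortComplex X.Modules} (hS : S.ShortExact) (hT : T.ShortExact)
    (τ : S ⟶ T) (p : ℕ) (x : Coh.HH X S.X₃ p) :
    hhDelta A hT p (hhMap A τ.τ₃ p x) = hhMap A τ.τ₁ (p + 1) (hhDelta A hS p x) := by
  have key := (QCoh.toAbFun_map_shortExact S hS).extClass_naturality
    (QCoh.toAbFun_map_shortExact T hT) ((QCoh.toAbFun X).mapShortComplex.map τ)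
  change (Abelian.Ext.comp (C := Cohom.AbSheaf X) (show Abelian.Ext.{u} _ (S.map (QCoh.toAbFun X)).X₃ p from x)
      (Abelian.Ext.mk₀ ((QCoh.toAbFun X).mapShortComplex.map τ).τ₃) (add_zero p)).comp
        (QCoh.toAbFun_map_shortExact T hT).extClass rfl =
    ((show Abelian.Ext.{u} _ (S.map (QCoh.toAbFun X)).X₃ p from x).comp
        (QCoh.toAbFun_map_shortExact S hS).extClass rfl).comp
      (Abelian.Ext.mk₀ ((QCoh.toAbFun X).mapShortComplex.map τ).τ₁) (add_zero _)
  rw [Abelian.Ext.comp_assoc_of_second_deg_zero, Abelian.Ext.comp_assoc_of_third_deg_zero]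
  exact congrArg (fun e => Abelian.Ext.comp (C := Cohom.AbSheaf X) (show Abelian.Ext.{u} _ (S.map (QCoh.toAbFun X)).X₃ p from x) e rfl) key.symm

/-- `H^p(M) → lim H^p(M/J^(n+1)M)` is bijective, elementwise. -/
def Bij (J : Ideal A) (M : X.Modules) (p : ℕ) : Prop :=
  (∀ x : Coh.HH X M p, (∀ n, hhMap A (Formal.modPowπ J (n + 1) M) p x = 0) → x = 0) ∧
  ∀ z : ∀ n, Coh.HH X (Formal.modPow J (n + 1) M) p,
    (∀ n, hhMap A (Formal.modPowTrans J (n + 1) M) p (z (n + 1)) = z n) →
      ∃ x, ∀ n, hhMap A (Formal.modPowπ J (n + 1) M) p x = z n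

theorem toHHlim_bijective {J : Ideal A} {p : ℕ} (h : Bij J M p) :
    Function.Bijective (Formal.toHHlim J M p) := by
  refine ⟨(injective_iff_map_eq_zero _).2 fun x hx => h.1 x fun n => ?_, fun z => ?_⟩
  · exact congrFun (congrArg Subtype.val hx) n
  · obtain ⟨x, hx⟩ := h.2 z.1 z.2
    exact ⟨x, Subtype.ext (funext hx)⟩

theorem killedBy_bot (M : X.Modules) : Formal.KilledBy (⊥ : Ideal A) M := fun a ha => by
  obtain rfl := (Submodule.mem_bot A).1 ha
  have h := smulMod_add (A := A) (M := M) 0 0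
  rw [add_zero] at h
  exact left_eq_add.1 h

theorem bij_bot (M : X.Modules) (p : ℕ) : Bij (⊥ : Ideal A) M p := by
  have hbot : ∀ n, (⊥ : Ideal A) ^ (n + 1) = ⊥ := fun n => le_bot_iff.1
    ((Ideal.pow_le_pow_right (Nat.le_add_left 1 n)).trans (pow_one (⊥ : Ideal A)).le)
  have hiso : ∀ n, IsIso (Formal.modPowπ (⊥ : Ideal A) (n + 1) M) := fun n =>
    (IsQuot.modPowπ _ (n + 1) M).isIso_of_killedBy (by rw [hbot]; exact killedBy_bot M)
  refine ⟨fun x hx => ?_, fun z hz => ?_⟩
  · have := hiso 0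
    have h := congrArg (hhMap A (inv (Formal.modPowπ (⊥ : Ideal A) (0 + 1) M)) p) (hx 0)
    rwa [hhMap_comp, IsIso.hom_inv_id, hhMap_id, map_zero] at h
  · have := hiso 0
    refine ⟨hhMap A (inv (Formal.modPowπ (⊥ : Ideal A) (0 + 1) M)) p (z 0), fun n => ?_⟩
    induction n with
    | zero => rw [hhMap_comp, IsIso.inv_hom_id, hhMap_id]
    | succ n ih =>
      have := hiso n
      have := hiso (n + 1)
      have e : Formal.modPowTrans (⊥ : Ideal A) (n + 1) M =
          inv (Formal.modPowπ (⊥ : Ideal A) (n + 1 + 1) M) ≫ Formal.modPowπ (⊥ : Ideal A) (n + 1) M := by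
        rw [IsIso.eq_inv_comp, Formal.modPowπ_trans]
      have : IsIso (Formal.modPowTrans (⊥ : Ideal A) (n + 1) M) := by rw [e]; infer_instance
      have h := congrArg (hhMap A (inv (Formal.modPowTrans (⊥ : Ideal A) (n + 1) M)) p) (hz n)
      rw [hhMap_comp, IsIso.hom_inv_id, hhMap_id, ← ih, hhMap_comp] at h
      rw [h]
      congr 2
      rw [IsIso.eq_comp_inv, Formal.modPowπ_trans]

/-- Kernels of powers of an endomorphism of a coherent module stabilise. -/
theorem exists_kernel_stable [IsNoetherian X] (hM : Coh.IsCoh M) (f : A) :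
    ∃ c, ∀ m, c ≤ m → ∀ {T : X.Modules} (z : T ⟶ M),
      z ≫ Formal.smulMod A M (f ^ m) = 0 → z ≫ Formal.smulMod A M (f ^ c) = 0 := by
  let P : ℕ → X.Modules := fun n => kernel (Formal.smulMod A M (f ^ n))
  let u : ∀ n, P n ⟶ P (n + 1) := fun n => kernel.lift _ (kernel.ι _) (by
    rw [pow_succ', smulMod_mul, kernel.condition_assoc, zero_comp])
  obtain ⟨c, hc⟩ := QCoh.exists_stable M hM P (fun n => (QCoh.isCoh_kernel _ hM hM).1)
    (fun n => kernel.ι _) u (fun n => kernel.lift_ι _ _ _)
  refine ⟨c, fun m hm => ?_⟩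
  induction m, hm using Nat.le_induction with
  | base => intro T z hz; exact hz
  | succ m hm ih =>
    intro T z hz
    refine ih z ?_
    have := hc m hm
    have hu : inv (u m) ≫ kernel.ι (Formal.smulMod A M (f ^ m)) =
        kernel.ι (Formal.smulMod A M (f ^ (m + 1))) := by
      rw [IsIso.inv_comp_eq]; exact (kernel.lift_ι _ _ _).symm
    rw [← kernel.lift_ι _ z hz, ← hu, Category.assoc, Category.assoc, kernel.condition, comp_zero,
      comp_zero]

theorem sub_mem_of_forall_succ {N : Type u} [AddCommGroup N] (S : ℕ → AddSubgroup N) (hS : Antitone S)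
    {x : ℕ → N} (h : ∀ n, x (n + 1) - x n ∈ S n) {m n : ℕ} (hmn : m ≤ n) : x n - x m ∈ S m := by
  induction n, hmn using Nat.le_induction with
  | base => simp
  | succ n hn ih => simpa using add_mem (hS hn (h n)) ih

theorem mem_range_smul_of_mem {N : Type u} [AddCommGroup N] [Module A N] {f : A} {n : ℕ} {x : N}
    (h : x ∈ ((Ideal.span ({f} : Set A)) ^ n • ⊤ : Submodule A N)) : ∃ y, f ^ n • y = x := by
  rw [Ideal.span_singleton_pow, Submodule.ideal_span_singleton_smul] at h
  obtain ⟨y, -, hy⟩ := h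
  exact ⟨y, hy⟩

theorem smul_mem_pow {N : Type u} [AddCommGroup N] [Module A N] (f : A) (n : ℕ) (y : N) :
    f ^ n • y ∈ ((Ideal.span ({f} : Set A)) ^ n • ⊤ : Submodule A N) :=
  Submodule.smul_mem_smul (Ideal.pow_mem_pow (Ideal.mem_span_singleton_self f) n) trivial

theorem hhMap_zero (p : ℕ) (x : Coh.HH X M p) : hhMap A (0 : M ⟶ N) p x = 0 := by
  rw [hhMap_apply, Functor.map_zero, H_map_eq_comp, Abelian.Ext.mk₀_zero, Abelian.Ext.comp_zero]

theorem epi_modPowπ (J : Ideal A) (n : ℕ) (M : X.Modules) : Epi (Formal.modPowπ J n M) :=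
  (IsQuot.modPowπ J n M).epi

theorem modPowLE_comp (J : Ideal A) {k l m : ℕ} (hkl : k ≤ l) (hlm : l ≤ m) (M : X.Modules) :
    Formal2.modPowLE J hlm M ≫ Formal2.modPowLE J hkl M = Formal2.modPowLE J (hkl.trans hlm) M := by
  have := epi_modPowπ J m M
  rw [← cancel_epi (Formal.modPowπ J m M), reassoc_of% (Formal2.modPowπ_modPowLE J hlm M),
    Formal2.modPowπ_modPowLE, Formal2.modPowπ_modPowLE]

theorem modPowLE_succ (J : Ideal A) (k : ℕ) (M : X.Modules) :
    Formal2.modPowLE J (Nat.le_succ k) M = Formal.modPowTrans J k M := by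
  have := epi_modPowπ J (k + 1) M
  rw [← cancel_epi (Formal.modPowπ J (k + 1) M), Formal2.modPowπ_modPowLE, Formal.modPowπ_trans]

/-- A compatible family extends to all exponents. -/
theorem exists_extend_family {J : Ideal A} {p : ℕ} (z : ∀ n, Coh.HH X (Formal.modPow J (n + 1) M) p)
    (hz : ∀ n, hhMap A (Formal.modPowTrans J (n + 1) M) p (z (n + 1)) = z n) :
    ∃ v : ∀ k, Coh.HH X (Formal.modPow J k M) p, (∀ n, v (n + 1) = z n) ∧
      ∀ k l (h : k ≤ l), hhMap A (Formal2.modPowLE J h M) p (v l) = v k := by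
  let v : ∀ k, Coh.HH X (Formal.modPow J k M) p := fun
    | 0 => hhMap A (Formal.modPowTrans J 0 M) p (z 0)
    | n + 1 => z n
  have hsucc : ∀ k, hhMap A (Formal.modPowTrans J k M) p (v (k + 1)) = v k := fun k => by
    cases k with
    | zero => rfl
    | succ k => exact hz k
  refine ⟨v, fun n => rfl, fun k l h => ?_⟩
  induction l, h using Nat.le_induction with
  | base =>
    have : Formal2.modPowLE J (le_refl k) M = 𝟙 _ := by
      have := epi_modPowπ J k M
      rw [← cancel_epi (Formal.modPowπ J k M), Formal2.modPowπ_modPowLE, Category.comp_id]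
    rw [this, hhMap_id]
  | succ l hl ih =>
    rw [← modPowLE_comp J hl (Nat.le_succ l) M, ← hhMap_comp, modPowLE_succ, hsucc, ih]

/-- The principal case, given the short exact sequences `0 → M' → M → M/f^(n+c)M → 0`. -/
theorem bij_of_sequences (f : A) {M M' : X.Modules} (c : ℕ) (φ : ℕ → (M' ⟶ M))
    (hsucc : ∀ n, φ (n + 1) = Formal.smulMod A M' f ≫ φ n)
    (hw : ∀ n, φ n ≫ Formal.modPowπ (Ideal.span ({f} : Set A)) (n + c) M = 0)
    (hS : ∀ n, (ShortComplex.mk (φ n) _ (hw n)).ShortExact) (p : ℕ)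
    [IsAdicComplete (Ideal.span ({f} : Set A)) (Coh.HH X M p)]
    [IsHausdorff (Ideal.span ({f} : Set A)) (Coh.HH X M' (p + 1))] :
    Bij (Ideal.span ({f} : Set A)) M p := by
  set J := Ideal.span ({f} : Set A) with hJ
  have hrange : ∀ n (y : Coh.HH X M' p), hhMap A (φ n) p y = f ^ n • hhMap A (φ 0) p y := fun n y => by
    induction n generalizing y with
    | zero => rw [pow_zero, one_smul]
    | succ n ih =>
      rw [hsucc, ← hhMap_comp, hhMap_smulMod, map_smul, ih, smul_smul, pow_succ']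
  refine ⟨fun x hx => ?_, fun z hz => ?_⟩
  · refine IsHausdorff.haus (inferInstance : IsHausdorff J (Coh.HH X M p)) x fun n => ?_
    rw [SModEq.zero]
    have h1 : hhMap A (Formal.modPowπ J (n + c) M) p x = 0 := by
      have h := congrArg (hhMap A (Formal.modPowTrans J (n + c) M) p) (hx (n + c))
      rwa [hhMap_comp, Formal.modPowπ_trans, map_zero] at h
    obtain ⟨y, rfl⟩ := (exact₂ (hS n) p x).1 h1
    exact (hrange n y).symm ▸ smul_mem_pow f n _
  · -- the family indexed by all exponents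
    obtain ⟨v, hvz, hv⟩ := exists_extend_family z hz
    let S : ℕ → ShortComplex X.Modules := fun n => ShortComplex.mk (φ n) _ (hw n)
    let τ : ∀ n, S (n + 1) ⟶ S n := fun n =>
      { τ₁ := Formal.smulMod A M' f
        τ₂ := 𝟙 M
        τ₃ := Formal2.modPowLE J (show n + c ≤ n + 1 + c by omega) M
        comm₁₂ := by dsimp [S]; rw [Category.comp_id, hsucc]
        comm₂₃ := by dsimp [S]; rw [Category.id_comp, Formal2.modPowπ_modPowLE] }
    have hwτ : ∀ n, hhMap A (τ n).τ₃ p (v (n + 1 + c)) = v (n + c) := fun n => hv (n + c) (n + 1 + c) (by omega)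
    -- the connecting classes vanish
    have hδ : ∀ n, hhDelta A (hS n) p (v (n + c)) = 0 := by
      have hstep : ∀ n, hhDelta A (hS n) p (v (n + c)) =
          f • hhDelta A (hS (n + 1)) p (v (n + 1 + c)) := fun n => by
        refine ((congrArg _ (hwτ n)).symm.trans
          (hhDelta_naturality (hS (n + 1)) (hS n) (τ n) p _)).trans ?_
        exact hhMap_smulMod f (p + 1) _
      have hiter : ∀ k n, hhDelta A (hS n) p (v (n + c)) =
          f ^ k • hhDelta A (hS (n + k)) p (v (n + k + c)) := by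
        intro k
        induction k with
        | zero => intro n; rw [pow_zero, one_smul]; rfl
        | succ k ih =>
          intro n
          rw [ih n, hstep (n + k), smul_smul, ← pow_succ]
          rfl
      intro n
      refine IsHausdorff.haus (inferInstance : IsHausdorff J (Coh.HH X M' (p + 1))) _ fun k => ?_
      rw [SModEq.zero, hiter k n]
      exact smul_mem_pow f k _
    have hx' : ∀ n, ∃ x : Coh.HH X M p, hhMap A (Formal.modPowπ J (n + c) M) p x = v (n + c) :=
      fun n => (exact₃ (hS n) p (v (n + c))).1 (hδ n)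
    choose x hx using hx'
    have hdiff : ∀ n, x (n + 1) - x n ∈ (J ^ n • ⊤ : Submodule A (Coh.HH X M p)) := fun n => by
      have h1 : hhMap A (Formal.modPowπ J (n + c) M) p (x (n + 1)) = v (n + c) := by
        rw [← hwτ n, ← hx (n + 1)]
        exact ((hhMap_comp _ _ p _).trans (congrArg (fun g => hhMap A g p (x (n + 1)))
          (Formal2.modPowπ_modPowLE J (show n + c ≤ n + 1 + c by omega) M))).symm
      have h2 : hhMap A (Formal.modPowπ J (n + c) M) p (x (n + 1) - x n) = 0 := by rw [map_sub, h1, hx, sub_self]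
      obtain ⟨y, hy⟩ := (exact₂ (hS n) p _).1 h2
      rw [← hy]
      exact (hrange n y).symm ▸ smul_mem_pow f n _
    have hanti : Antitone fun n => (J ^ n • ⊤ : Submodule A (Coh.HH X M p)).toAddSubgroup :=
      fun m n h => Submodule.smul_mono_left (Ideal.pow_le_pow_right h)
    obtain ⟨L, hL⟩ := IsPrecomplete.prec (inferInstance : IsPrecomplete J (Coh.HH X M p)) (f := x)
      (fun {m n} h => SModEq.sub_mem.2 (by
        rw [← neg_sub]
        exact neg_mem (sub_mem_of_forall_succ _ hanti hdiff h)))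
    refine ⟨L, fun n => ?_⟩
    obtain ⟨y, hy⟩ := mem_range_smul_of_mem (SModEq.sub_mem.1 (hL (n + 1)))
    have h0 : hhMap A (Formal.modPowπ J (n + 1) M) p (x (n + 1) - L) = 0 := by
      rw [← hy, ← hhMap_smulMod, hhMap_comp,
        (comp_eq_zero_span_pow_iff f (n + 1) _).1 (IsQuot.modPowπ J (n + 1) M).comp_eq_zero]
      exact hhMap_zero p y
    rw [map_sub, sub_eq_zero] at h0
    rw [← h0, ← Formal2.modPowπ_modPowLE J (show n + 1 ≤ n + 1 + c by omega) M, ← hhMap_comp,
      show hhMap A (Formal.modPowπ J (n + 1 + c) M) p (x (n + 1)) = v (n + 1 + c) from hx (n + 1),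
      hv, hvz]

/-- The principal case. -/
theorem bij_span_singleton [IsNoetherianRing A] [IsNoetherian X] (f : A)
    [IsAdicComplete (Ideal.span ({f} : Set A)) A] (hM : Coh.IsCoh M)
    (hfin : ∀ (N : X.Modules) (π : M ⟶ N), Epi π → Coh.IsCoh N → ∀ p, Module.Finite A (Coh.HH X N p))
    (p : ℕ) : Bij (Ideal.span ({f} : Set A)) M p := by
  set J := Ideal.span ({f} : Set A) with hJ
  obtain ⟨c, hc⟩ := exists_kernel_stable hM f
  let ι : kernel (Formal.smulMod A M (f ^ c)) ⟶ M := kernel.ι _
  let M' := cokernel ι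
  let q : M ⟶ M' := cokernel.π ι
  have hM' : Coh.IsCoh M' := QCoh.isCoh_cokernel ι (QCoh.isCoh_kernel _ hM hM) hM
  have hφ0 : ∀ n, ι ≫ Formal.smulMod A M (f ^ (n + c)) = 0 := fun n => by
    rw [pow_add, smulMod_mul, kernel.condition_assoc, zero_comp]
  let φ : ∀ n, M' ⟶ M := fun n => cokernel.desc ι _ (hφ0 n)
  have hqφ : ∀ n, q ≫ φ n = Formal.smulMod A M (f ^ (n + c)) := fun n => cokernel.π_desc _ _ _
  have hmono : ∀ n, Mono (φ n) := fun n => by
    refine Preadditive.mono_of_cancel_zero _ fun {T} x hx => ?_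
    obtain ⟨T', r, hr, z, hz⟩ := surjective_up_to_refinements_of_epi q x
    have h0 : z ≫ Formal.smulMod A M (f ^ (n + c)) = 0 := by
      rw [← hqφ, ← Category.assoc, ← hz, Category.assoc, hx, comp_zero]
    rw [← cancel_epi r, comp_zero, hz,
      ← kernel.lift_ι _ z (hc (n + c) (Nat.le_add_left c n) z h0), Category.assoc]
    exact (congrArg _ (cokernel.condition ι)).trans comp_zero
  have hq := fun n => IsQuot.modPowπ J (n + c) M
  have hw : ∀ n, φ n ≫ Formal.modPowπ J (n + c) M = 0 := fun n => by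
    rw [← cancel_epi q, ← Category.assoc, hqφ, comp_zero]
    exact (comp_eq_zero_span_pow_iff f _ _).1 (hq n).comp_eq_zero
  let S : ℕ → ShortComplex X.Modules := fun n => ShortComplex.mk (φ n) _ (hw n)
  have hS : ∀ n, (S n).ShortExact := fun n => by
    have hd : ∀ {Z : X.Modules} (g : M ⟶ Z), φ n ≫ g = 0 →
        ∀ a ∈ J ^ (n + c), Formal.smulMod A M a ≫ g = 0 := fun g hg =>
      (comp_eq_zero_span_pow_iff f _ _).2 (by rw [← hqφ, Category.assoc, hg, comp_zero])
    have := (hq n).epi
    refine ShortComplex.ShortExact.mk' ?_ (hmono n) (hq n).epi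
    exact ShortComplex.exact_of_g_is_cokernel _ (CokernelCofork.IsColimit.ofπ _ _
      (fun g hg => ((hq n).exists_desc g (hd g hg)).choose)
      (fun g hg => ((hq n).exists_desc g (hd g hg)).choose_spec)
      (fun g hg m hm => (cancel_epi (Formal.modPowπ J (n + c) M)).1
        (hm.trans ((hq n).exists_desc g (hd g hg)).choose_spec.symm)))
  have hsucc : ∀ n, φ (n + 1) = Formal.smulMod A M' f ≫ φ n := fun n => by
    rw [← cancel_epi q, hqφ, ← Category.assoc, ← smulMod_naturality, Category.assoc, hqφ,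
      ← smulMod_mul]
    ring_nf
  have hfM : Module.Finite A (Coh.HH X M p) := hfin M (𝟙 M) inferInstance hM p
  have hfM' : Module.Finite A (Coh.HH X M' (p + 1)) := hfin M' q inferInstance hM' (p + 1)
  have hcM : IsAdicComplete J (Coh.HH X M p) := GrothLib.AdicLim.isAdicComplete_of_finite J _
  have hcM' : IsAdicComplete J (Coh.HH X M' (p + 1)) :=
    GrothLib.AdicLim.isAdicComplete_of_finite J _
  exact bij_of_sequences f c φ hsucc hw hS p

end GrothLib.FormalFun
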