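import Groth.Agent.Lib.FormalFun.HomComplete

/-!
# Completion is fully faithful on modules killed by a power of the ideal
-/

universe u

open CategoryTheory CategoryTheory.Limits AlgebraicGeometry Opposite TopologicalSpace

namespace GrothLib.FormalFun

open GrothLib.FormalSys GrothLib.Cohom

variable {A : Type u} [CommRing A] {X : Scheme.{u}} [X.Over (Spec (CommRingCat.of A))]

/-- Formal functions are trivial for modules killed by a power of the ideal. -/
theorem bij_of_killedBy (I : Ideal A) (c : ℕ) {H : X.Modules} (hH : Formal.KilledBy (I ^ c) H) (p : ℕ) :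
    Bij I H p := by
  have hiso : ∀ m, c ≤ m → IsIso (Formal.modPowπ I m H) := fun m hm =>
    (IsQuot.modPowπ I m H).isIso_of_killedBy (killedBy_mono (Ideal.pow_le_pow_right hm) hH)
  refine ⟨fun x hx => ?_, fun z hz => ?_⟩
  · have := hiso (c + 1) (Nat.le_succ c)
    have h := congrArg (hhMap A (inv (Formal.modPowπ I (c + 1) H)) p) (hx c)
    rwa [hhMap_comp, IsIso.hom_inv_id, hhMap_id, map_zero] at h
  · obtain ⟨v, hvz, hv⟩ := exists_extend_family z hz
    have := hiso (c + 1) (Nat.le_succ c)
    refine ⟨hhMap A (inv (Formal.modPowπ I (c + 1) H)) p (z c), fun n => ?_⟩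
    rcases le_total n c with hn | hn
    · rw [← Formal2.modPowπ_modPowLE I (Nat.succ_le_succ hn) H, ← hhMap_comp, hhMap_comp _ (Formal.modPowπ I (c + 1) H),
        IsIso.inv_hom_id, hhMap_id, ← hvz c, ← hvz n, hv]
    · have := hiso (n + 1) (by omega)
      have e := Formal2.modPowπ_modPowLE I (Nat.succ_le_succ hn) H
      rw [← hvz n, ← hvz c, ← hv (c + 1) (n + 1) (Nat.succ_le_succ hn), hhMap_comp, hhMap_comp]
      have : Formal2.modPowLE I (Nat.succ_le_succ hn) H ≫ inv (Formal.modPowπ I (c + 1) H) ≫
          Formal.modPowπ I (n + 1) H = 𝟙 _ := by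
        rw [← cancel_epi (Formal.modPowπ I (n + 1) H), reassoc_of% e, IsIso.hom_inv_id_assoc,
          Category.comp_id]
      rw [this, hhMap_id]

variable [IsLocallyNoetherian X]

/-- Morphisms of completions come from unique morphisms if one of the modules is killed by a power. -/
theorem existsUnique_hom_of_killedBy (I : Ideal A) {M N : X.Modules} (hM : Coh.IsCoh M) (hN : Coh.IsCoh N)
    (c : ℕ) (hc : Formal.KilledBy (I ^ c) M ∨ Formal.KilledBy (I ^ c) N)
    (ψ : Formal.completion I M ⟶ Formal.completion I N) :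
    ∃! φ : M ⟶ N, ∀ n : ℕ,
      Formal.modPowπ I (n + 1) M ≫ ψ.app (op n) = φ ≫ Formal.modPowπ I (n + 1) N := by
  refine existsUnique_hom I hM hN (bij_of_killedBy I c (fun a ha => hom_ext_stalkLin fun y δ => ?_) 0) ψ
  rw [stalkLin_smulMod, stalkLin_zero]
  refine ((HomSh.hasRel_of_isCoh hM).evalStalk_bijective N y).1 ?_
  rw [map_smul, map_zero]
  ext v
  rw [LinearMap.smul_apply, LinearMap.zero_apply]
  rcases hc with h | h
  · rw [← map_smul, ← stalkLin_smulMod M a y v, h a ha, stalkLin_zero, map_zero]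
  · rw [← stalkLin_smulMod, h a ha, stalkLin_zero]

end GrothLib.FormalFun
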